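import Cfsg.Agent.Lib.Mathieu.Orb1

/-!
# More orbit decompositions: dodecads, duads, triads, and the smaller Mathieu groups
-/

set_option autoImplicit false
set_option maxHeartbeats 400000

namespace Cfsg.Lib.Mathieu

open Cfsg.Lib.Golay Cfsg.Lib.Calc Finset MulAction
open scoped Pointwise

/-- generators of `M12` -/
def g12 : List ℕ := [422451661764592269184238116238560770, 975070907872574667786354774081352192]
/-- generators of `M11` -/
def g11 : List ℕ := [464211397650534822417042411844904320, 725149587968503554971547432317950240]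
/-- generators of `M22` -/
def g22 : List ℕ := [974221284281640318031481289895990432, 976275297139305991188391485688391296]
theorem g12_ok : ∀ c ∈ g12, ∃ g ∈ m12, R g c := mem12.list (by decide +kernel)
theorem g11_ok : ∀ c ∈ g11, ∃ g ∈ m11, R g c := mem11.list (by decide +kernel)
theorem g22_ok : ∀ c ∈ g22, ∃ g ∈ m22, R g c := mem22.list (by decide +kernel)

theorem cls_dod_dod {d : Finset GolayPt} (hd : d ∈ dodecads) :
    Cls (stabilizer M24 d) dodecads (fun y => (d ∩ y).card) [(12, 1), (0, 1), (4, 495), (6, 1584), (8, 495)] := by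
  obtain ⟨g, rfl⟩ := exists_smul_dodecad dod0_mem hd
  exact (cls_of_clsM g12_ok (φ := fun y => (G.toF 340831 ∩ y).card)
    (fun g hg y hy => ⟨(smul_mem_dodecads g.2).2 hy, card_inter_smul hg y⟩)
    (fun m _ h => ⟨mem_dodecads_of_isDod h, card_inter_toF (by norm_num) m⟩) ncard_dodecads
    (by decide +kernel : clsD g12 isDod _ _ [(340831, 12, 1), (16436384, 0, 1), (1035448, 4, 495), (57274, 6, 1584), (28637, 8, 495)] = true)).cj (cjSt rfl)
    (fun _ => smul_mem_dodecads g.2) fun y _ => card_smul_inter g _ y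

theorem cls_dod_oct {d : Finset GolayPt} (hd : d ∈ dodecads) :
    Cls (stabilizer M24 d) octads (fun y => (d ∩ y).card) [(6, 132), (2, 132), (4, 495)] := by
  obtain ⟨g, rfl⟩ := exists_smul_dodecad dod0_mem hd
  exact (cls_of_clsM g12_ok (φ := fun y => (G.toF 340831 ∩ y).card)
    (fun g hg y hy => ⟨(smul_mem_octads g.2).2 hy, card_inter_smul hg y⟩)
    (fun m _ h => ⟨mem_octads_of_isOct h, card_inter_toF (by norm_num) m⟩) ncard_octads
    (by decide +kernel : clsO g12 isOct _ _ [(5279, 6, 132), (190626, 2, 132), (15777, 4, 495)] = true)).cj (cjSt rfl)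
    (fun _ => smul_mem_octads g.2) fun y _ => card_smul_inter g _ y

/-! ### Complementary pairs of dodecads -/

/-- the complementary pairs of dodecads -/
def dodPairs : Set (Finset (Finset GolayPt)) := {X | ∃ d ∈ dodecads, X = {d, dᶜ}}

theorem compl_mem_dodecads {d : Finset GolayPt} (hd : d ∈ dodecads) : dᶜ ∈ dodecads :=
  ⟨isGolaySys_CW.compl_mem hd.1, by rw [card_compl, hd.2, card_golayPt]⟩

theorem smul_pair (g : P24) (d : Finset GolayPt) :
    g • ({d, dᶜ} : Finset (Finset GolayPt)) = {g • d, (g • d)ᶜ} := by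
  rw [smul_finset_insert, smul_finset_singleton, smul_compl]

theorem smul_mem_dodPairs {g : P24} (hg : g ∈ M24) {X : Finset (Finset GolayPt)} :
    g • X ∈ dodPairs ↔ X ∈ dodPairs :=
  smul_mem_iff_of_mapsTo (Ω := dodPairs) (by
    rintro g hg _ ⟨d, hd, rfl⟩
    exact ⟨_, (smul_mem_dodecads hg).2 hd, smul_pair g d⟩) hg

theorem ne_compl {d : Finset GolayPt} : d ≠ dᶜ := fun e => by
  have : (none : GolayPt) ∈ d ↔ none ∈ dᶜ := by rw [← e]
  simp at this

theorem ncard_dodPairs : dodPairs.ncard = 1288 := by
  have := ncard_mul_eq dodecads dodPairs (fun t S => t ∈ S) (m := 1) (n := 2)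
    (fun d hd => Set.ncard_eq_one.2 ⟨{d, dᶜ}, Set.eq_singleton_iff_unique_mem.2 ⟨⟨⟨d, hd, rfl⟩, by simp⟩, by
      rintro _ ⟨⟨e, -, rfl⟩, h⟩
      rcases mem_insert.1 h with rfl | h
      · rfl
      · rw [mem_singleton.1 h, compl_compl, pair_comm]⟩⟩) (by
      rintro _ ⟨d, hd, rfl⟩
      rw [← card_pair (ne_compl (d := d)), ← Set.ncard_coe_finset]
      congr 1
      refine Set.ext fun t => ⟨fun h => h.2, fun h => ⟨?_, h⟩⟩
      rcases mem_insert.1 h with rfl | h
      exacts [hd, mem_singleton.1 h ▸ compl_mem_dodecads hd])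
  rw [ncard_dodecads] at this
  omega

theorem orbit_dodPair {d : Finset GolayPt} (hd : d ∈ dodecads) :
    orbit M24 ({d, dᶜ} : Finset (Finset GolayPt)) = dodPairs :=
  Set.ext fun _ => ⟨by rintro ⟨g, rfl⟩; exact (smul_mem_dodPairs g.2).2 ⟨d, hd, rfl⟩, by
    rintro ⟨e, he, rfl⟩
    obtain ⟨g, rfl⟩ := exists_smul_dodecad hd he
    exact ⟨g, smul_pair g d⟩⟩

theorem decS_two (c : ℕ) : decS 2 c = {G.toF (g24 c 0), G.toF (g24 c 1)} := by
  simp [decS, range_add_one, pair_comm]

/-- test for complementary pairs of dodecads -/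
def isPair (c : ℕ) : Bool := isDod (g24 c 0) && Nat.beq (g24 c 1) (Nat.xor (g24 c 0) (2 ^ 24 - 1))

theorem mem_dodPairs_of_isPair {c : ℕ} (h : isPair c = true) : decS 2 c ∈ dodPairs := by
  rw [isPair, Bool.and_eq_true, beq_iff] at h
  exact ⟨_, mem_dodecads_of_isDod h.1, by rw [decS_two, h.2, ← G.toF_compl]; rfl⟩

/-- code of the standard pair of dodecads -/
def p0 : ℕ := 275756764967775

theorem decS_p0 : decS 2 p0 = {G.toF 340831, (G.toF 340831)ᶜ} := by
  rw [decS_two, ← G.toF_compl, show g24 p0 0 = 340831 by decide +kernel,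
    show g24 p0 1 = Nat.xor 340831 (2 ^ G.n - 1) by decide +kernel]

/-- generators of `M12:2` -/
def gP : List ℕ := [440345853460575337671951602653077577, 340159489233718037794010188806870383]
theorem gP_ok : ∀ c ∈ gP, ∃ g ∈ stabilizer M24 (decS 2 p0), R g c := (Mem.fam _ _).list (by decide +kernel)

theorem cls_pair_pair {d : Finset GolayPt} (hd : d ∈ dodecads) :
    Cls (stabilizer M24 ({d, dᶜ} : Finset (Finset GolayPt))) dodPairs (meet {d, dᶜ}) [(4097, 1), (272, 495), (64, 792)] := by
  obtain ⟨g, rfl⟩ := exists_smul_dodecad dod0_mem hd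
  rw [← smul_pair, ← decS_p0]
  exact (cls_of_clsS gP_ok (φ := meet (decS 2 p0))
    (fun g hg y hy => ⟨(smul_mem_dodPairs g.2).2 hy, meet_smul_right hg y⟩)
    (fun m h => ⟨mem_dodPairs_of_isPair h, meet_decS 2 p0 2 m⟩) ncard_dodPairs
    (by decide +kernel : clsS 2 gP 0x70000002d0004000100000025000200020001000b001e0006000000040008001e00000004000f000000610001001b000500d8000000000002000d000d000b0002000300010002000300080000000000000009000b0000001900050012000f0005000c000300210000000300010005000e00000001008200110010000000040006001e000000000000000b001e0002001e0007000500180005000c0000003f0046000100100002000c00000004000700000003000000120000000f0003001400030010002b0023000a00010000002200020001001c00070000000400020000000c0000000200160002002d000e0001000400010002002d006f0032000f0018003f000c001100000008001e0004000000000011000000000016000300020000001a00050001003f0003001400000000000500190015002200080000000c003f000400000023000600070003002b000400000000000e000e0000000a001100240004001a0004003f00210018002e000000000000000500030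018000700080003007c0015000d00050000000b001e001b000a002c0000000e000a000300000009000100000034002900000000001f0000000900000001000000010000000d001e002f005100010007000700000002000400140017003000010003001a00090014001a000c0006000100000000000a001600000037000600110000000900000001004b00000006002500110001001900050000001b0005000100050004001e0014001600000003000000180000000300000063000900000000000e0024000b0016000d00000006000000150009001c00000001000f0007000a0001001f000a000400200001001700070045000300190002000300100009000000020033003c000200610000000b000300020003000900090023000800030007000000070005001c0003 337 7007071 1613 isPair _ _ [(275756764967775, 4097, 1), (280994510827485, 272, 495), (280514061721530, 64, 792)] = true)).cj (cjSt rfl)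
    (fun _ => smul_mem_dodPairs g.2) fun y _ => meet_smul g _ y

theorem cls_pair_sext {d : Finset GolayPt} (hd : d ∈ dodecads) :
    Cls (stabilizer M24 ({d, dᶜ} : Finset (Finset GolayPt))) sextets (meet {d, dᶜ}) [(4, 396), (21, 495), (10, 880)] := by
  obtain ⟨g, rfl⟩ := exists_smul_dodecad dod0_mem hd
  rw [← smul_pair, ← decS_p0]
  exact (cls_of_clsS gP_ok (φ := meet (decS 2 p0))
    (fun g hg y hy => ⟨(smul_mem_sextets g.2).2 hy, meet_smul_right hg y⟩)
    (fun m h => ⟨mem_sextets_of_isSext h, meet_decS 2 p0 6 m⟩) ncard_sextets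
    (by decide +kernel : clsX gP isSext _ _ [(11194290666741101718106658241241524765458595, 4, 396), (11346418110422547019603405933566122482728975, 21, 495), (11346386374997654143932714770847690859216935, 10, 880)] = true)).cj (cjSt rfl)
    (fun _ => smul_mem_sextets g.2) fun y _ => meet_smul g _ y

/-! ### Duads and triads -/

open Classical in
/-- `1` if `s` lies in an octad, else `0` -/
noncomputable def inOct (s : Finset GolayPt) : ℕ := if ∃ o ∈ octads, s ⊆ o then 1 else 0

theorem exists_octad_smul {g : P24} (hg : g ∈ M24) {s : Finset GolayPt} :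
    (∃ o ∈ octads, g • s ⊆ o) ↔ ∃ o ∈ octads, s ⊆ o := by
  have key : ∀ g ∈ M24, ∀ s, (∃ o ∈ octads, s ⊆ o) → ∃ o ∈ octads, g • s ⊆ o := fun g hg s ⟨o, h1, h2⟩ =>
    ⟨_, (smul_mem_octads hg).2 h1, smul_finset_subset_smul_finset h2⟩
  exact ⟨fun h => by simpa using key _ (M24.inv_mem hg) _ h, key g hg s⟩

theorem inOct_smul {g : P24} (hg : g ∈ M24) (s : Finset GolayPt) : inOct (g • s) = inOct s := by
  classical exact if_congr (exists_octad_smul hg) rfl rfl

theorem inOct_le (s : Finset GolayPt) : inOct s ≤ 1 := by unfold inOct; split_ifs <;> simp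

theorem inOct_eq_one {s : Finset GolayPt} : inOct s = 1 ↔ ∃ o ∈ octads, s ⊆ o := by simp [inOct]
theorem inOct_eq_zero {s : Finset GolayPt} : inOct s = 0 ↔ ¬ ∃ o ∈ octads, s ⊆ o := by simp [inOct]

/-- `inOct` on masks -/
noncomputable def inOctC (m : ℕ) : ℕ :=
  cnd (allCW fun o => cond (Nat.beq (pc o) 8) (!Nat.beq (Nat.land m o) m) true) 0 1

theorem inOct_toF {m : ℕ} (hm : m < 2 ^ 24) : inOct (G.toF m) = inOctC m := by
  unfold inOctC
  cases h : allCW fun o => cond (Nat.beq (pc o) 8) (!Nat.beq (Nat.land m o) m) true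
  · rw [cnd_false, inOct_eq_one]
    rw [← Bool.not_eq_true, allCW, allB_iff] at h
    push Not at h
    obtain ⟨i, hi, h⟩ := h
    rw [force_eq] at h
    cases e : Nat.beq (pc (cw i)) 8 <;> rw [e] at h
    · exact absurd rfl h
    · exact ⟨_, ⟨cw_mem hi, by rw [card_toF (cw_lt hi), beq_iff.1 e]⟩, G.subset_of_land (by simpa using h)⟩
  · rw [cnd_true, inOct_eq_zero]
    rintro ⟨o, h1, h2⟩
    obtain ⟨a, -, rfl, h3⟩ := forall_octads h h1
    rw [G.subset_iff_land hm, ← beq_iff] at h2
    rw [h2] at h3
    exact absurd h3 (by decide)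

theorem inOct_lor {a b : ℕ} (ha : a < 2 ^ 24) (hb : b < 2 ^ 24) :
    inOct (G.toF (Nat.lor a b)) = inOctC (Nat.lor a b) := inOct_toF (Nat.or_lt_two_pow ha hb)

theorem card_eq_of_beq {m k : ℕ} (hm : m < 2 ^ 24) (h : Nat.beq (pc m) k = true) : (G.toF m).card = k := by
  rw [card_toF hm, beq_iff.1 h]

theorem cls_duad {s : Finset GolayPt} (hs : s.card = 2) :
    Cls (stabilizer M24 s) {t | t.card = 2} (fun y => (s ∩ y).card) [(2, 1), (1, 44), (0, 231)] := by
  obtain ⟨g, rfl⟩ := exists_smul_eq_of_card_le_five (s := G.toF 8388609) (t := s)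
    (by rw [hs]; exact card_toF_eq (by decide +kernel)) (by rw [card_toF (by norm_num)]; decide +kernel)
  exact (cls_of_clsM ((Mem.set (by norm_num)).list (l := [981388094696943246053813590753322240, 14832075466368256816524512753993943]) (by decide +kernel))
    (φ := fun y => (G.toF 8388609 ∩ y).card) (Ω := {t | t.card = 2})
    (fun g hg y hy => ⟨(card_smul_finset (g : P24) y).trans hy, card_inter_smul hg y⟩)
    (fun m hm h => ⟨card_eq_of_beq hm h, card_inter_toF (by norm_num) m⟩)
    (by rw [ncard_card_eq, card_golayPt]; rfl : _ = 276)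
    (by decide +kernel : clsM _ 0x1a0001000800020000000800020007000a000d0008006c00050001000b000200010007000100150040000f0000001d0006000600020003001100000016000300000002000500050001000200000000000000020003000a000300020000000f000200180004000f000f000400000004001000170000000500080008000d000000080009000400050000001b000200090003000100070000000200000000 79 3344557 349 _ _ _ [(8388609, 2, 1), (3, 1, 44), (6, 0, 231)] = true)).cj (cjSt rfl)
    (fun y => by rw [Set.mem_ofPred_eq, Set.mem_ofPred_eq, ← card_smul_finset (g : P24) y]; rfl)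
    fun y _ => card_smul_inter g _ y

/-- generators of the triad stabiliser -/
def gR : List ℕ := [58747380658900297858483974301664992, 975673166298445816467213955494129665]
theorem gR_ok : ∀ c ∈ gR, ∃ g ∈ stabilizer M24 (G.toF 8388611), R g c :=
  (Mem.set (by norm_num)).list (by decide +kernel)

theorem exists_smul_triad {s : Finset GolayPt} (hs : s.card = 3) : ∃ g : M24, (g : P24) • G.toF 8388611 = s :=
  exists_smul_eq_of_card_le_five (by rw [hs]; exact card_toF_eq (by decide +kernel))
    (by rw [card_toF (by norm_num)]; decide +kernel)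

theorem cls_triad {s : Finset GolayPt} (hs : s.card = 3) :
    Cls (stabilizer M24 s) {t | t.card = 3} (fun y => (s ∩ y).card + 4 * inOct (s ∪ y)) [(7, 1), (6, 63), (5, 630), (4, 210), (0, 1120)] := by
  obtain ⟨g, rfl⟩ := exists_smul_triad hs
  have key : ∀ (g : M24) s y, ((g : P24) • s ∩ (g : P24) • y).card + 4 * inOct ((g : P24) • s ∪ (g : P24) • y) =
      (s ∩ y).card + 4 * inOct (s ∪ y) := fun g s y => by rw [card_smul_inter, ← smul_finset_union, inOct_smul g.2]
  exact (cls_of_clsM gR_ok (φ := fun y => (G.toF 8388611 ∩ y).card + 4 * inOct (G.toF 8388611 ∪ y))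
    (Ω := {t | t.card = 3}) (f := fun m => pc (Nat.land 8388611 m) + 4 * inOctC (Nat.lor 8388611 m))
    (fun g hg y hy => ⟨(card_smul_finset (g : P24) y).trans hy, by
      rw [← key g _ y, show (g : P24) • G.toF 8388611 = _ from hg]⟩)
    (fun m hm h => ⟨card_eq_of_beq hm h, by
      rw [card_inter_toF (by norm_num) m, ← G.toF_lor, inOct_lor (by norm_num) hm]⟩)
    (by rw [ncard_card_eq, card_golayPt]; rfl : _ = 2024)
    (by decide +kernel : clsM _ 0x4900770000000300bb0004000300200003000200030001001700010000001d00480009000000320003008000b8000e00b30003000000550009000000000142001b000b000b004f001a0000001600050004000701a7001c000000320003000000180033000200000002000a0009000d000401290002000b009f0001002d005b003d019700030153005300e2000900120010000400d700000004006f000c002b000300b6006c0007000100c80002001000020008009a0063007d002900040023003b0032002a00480000000601170000000e00040000000000420019005b00a30127000c011600c900dc0015000500450001000500a400020001000e00ae00040002000900a80066000400670000002800180008000a00070002001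80005002e000001350018000900110055001d0000001100af0004001d0013000a003300310057000300070004000e000b00060003000600ee00950112000c0009000b000a0159000200050000004800000000003f0069000300fc0000000900fe0013000501110002000500270002000900000004005a0000003000190007001a0000000a00040031000e001c0001000400020007000100b00010002e000500b6000b00980001010100120012000100720000000200fd006b000b0048000000f3000c001400010009000f000c003e0012000500000003000000b10014001200cd0001011e000200000055000000020000006000190005002c0004000c002a000000070012000d00000009000100110006000000030001000100180007003800180003000f000f00090035002c00070007000500020000004f0005000800630025001100040000000f00020010003c00010000015c000a000500ce00e2000502d000160006000400460006000800010001008e000000130005001c00080002000c0002000c002d000e0013003700050001009300a0000500090031000800dd000000020007005600cf00510001000e000600050000002000010043000800050008000e0001000700040008004000010033000000000008000f0001001d001a000a00fa0010000000b90039000a001c000000230041000c000100070004000d000f00ac00000006004c00320000000b00140004000600100003003400db0001000001160000007900000001000a000300030002000f000f002700010000008500010031002e0020003e010f000f000001010009000d0007003a001e0041000101e700010000000a00270001007e00000014000000170031000b0001020b000100020052000e007e00ab0003000a000e000200010004000c00000072009600030019000100080031004d00000004003000000006000200360004002b006401470002004900000019000400090000004800000004000c00020002010100040026000000350100001d014c00020004000300cb00b000130000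 521 8056021 2539 _ _ _ [(8388611, 7, 1), (7, 6, 63), (13, 5, 630), (44, 4, 210), (28, 0, 1120)] = true)).cj (cjSt rfl)
    (fun y => by rw [Set.mem_ofPred_eq, Set.mem_ofPred_eq, ← card_smul_finset (g : P24) y]; rfl)
    fun y _ => key g _ y

theorem card_filter_decS {k c : ℕ} (h : (decS k c).card = k) (P : Finset GolayPt → Prop) [DecidablePred P]
    (p : ℕ → Bool) (hp : ∀ m < 2 ^ 24, P (G.toF m) ↔ p m = true) :
    ((decS k c).filter P).card = cntB k fun i => p (g24 c i) := by
  have h' := card_image_iff.1 (h.trans (card_range k).symm)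
  rw [decS, filter_image, card_image_of_injOn (h'.mono (coe_subset.2 (filter_subset _ _))), cntB_eq]
  exact congrArg _ (filter_congr fun i _ => hp _ (g24_lt _ _))

theorem card_filter_smul (g : P24) (S : Finset (Finset GolayPt)) (P Q : Finset GolayPt → Prop) [DecidablePred P]
    [DecidablePred Q] (h : ∀ t, Q (g • t) ↔ P t) : ((g • S).filter Q).card = (S.filter P).card := by
  rw [smul_finset_def, filter_image, card_image_of_injective _ (MulAction.injective g)]
  exact congrArg _ (filter_congr fun t _ => h t)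

theorem cls_triad_sext {s : Finset GolayPt} (hs : s.card = 3) :
    Cls (stabilizer M24 s) sextets (fun S => (S.filter fun t => (t ∩ s).Nonempty).card) [(1, 21), (2, 630), (3, 1120)] := by
  obtain ⟨g, rfl⟩ := exists_smul_triad hs
  have key : ∀ (g : P24) (s : Finset GolayPt) (S : Finset (Finset GolayPt)),
      ((g • S).filter fun t => (t ∩ g • s).Nonempty).card = (S.filter fun t => (t ∩ s).Nonempty).card :=
    fun g s S => card_filter_smul g S _ _ fun t => by rw [← smul_finset_inter, smul_finset_nonempty]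
  exact (cls_of_clsS gR_ok (φ := fun S => (S.filter fun t => (t ∩ G.toF 8388611).Nonempty).card)
    (fun g hg y hy => ⟨(smul_mem_sextets g.2).2 hy, by
      rw [← key g _ y, show (g : P24) • G.toF 8388611 = _ from hg]⟩)
    (fun m h => ⟨mem_sextets_of_isSext h, card_filter_decS (mem_sextets_of_isSext h).1 _
      (fun t => blt 0 (pc (Nat.land t 8388611))) fun t ht => by rw [← card_pos, card_inter_toF ht, blt_iff]⟩)
    ncard_sextets (by decide +kernel : clsX gR isSext _ _ [(11193933228700834806173645063309984098419120, 1, 21), (11346418110422547019603405933566122482728975, 2, 630), (13938987014164837825942347917625174645538845, 3, 1120)] = true)).cj (cjSt rfl)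
    (fun _ => smul_mem_sextets g.2) fun y _ => key g _ y

/-! ### The smaller Mathieu groups -/

theorem exists_map_octad {o : Finset GolayPt} (ho : o ∈ octads) {l l' : List GolayPt} (hl : l.Nodup)
    (hl' : l'.Nodup) (e : l.length = l'.length) (h6 : l.length ≤ 6) (h1 : ∀ x ∈ l, x ∈ G.toF 8536111)
    (h2 : ∀ x ∈ l', x ∈ o) : ∃ g : M24, (g : P24) • G.toF 8536111 = o ∧ l.map (g : P24) = l' := by
  obtain ⟨g, rfl⟩ := exists_smul_octad oct0_mem ho
  have : ∀ k ≤ 6, covOK 5 LO k 8536111 = true := by decide +kernel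
  obtain ⟨k, a, b⟩ := exists_map_mask_list chO.w (fun _ h => h) (this _ h6) hl
    (hl'.map (g : P24)⁻¹.injective) (by simpa using e) h1 (by
      simp only [List.mem_map]
      rintro _ ⟨x, hx, rfl⟩
      exact Finset.inv_smul_mem_iff.2 (h2 x hx))
  refine ⟨g * k, by rw [Subgroup.coe_mul, mul_smul, show (k : P24) • G.toF 8536111 = _ from a], ?_⟩
  rw [Subgroup.coe_mul, Equiv.Perm.coe_mul, ← List.map_map, b, List.map_map]
  simp

theorem pt_mem {i m : ℕ} (h : band (blt i 24) (Calc.bit m i) = true) : G.pt i ∈ G.toF m := by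
  rw [band_eq_true, blt_iff, Calc.bit_eq] at h
  exact (G.pt_mem_toF h.1).2 h.2

theorem pt_notMem {i m : ℕ} (h : band (blt i 24) (!Calc.bit m i) = true) : G.pt i ∉ G.toF m := by
  rw [band_eq_true, blt_iff, Calc.bit_eq] at h
  rw [G.pt_mem_toF h.1]; simpa using h.2

theorem pt_mem_iff {i : ℕ} (hi : i < 24) (m : ℕ) : G.pt i ∈ G.toF m ↔ Calc.bit m i = true := by
  rw [G.pt_mem_toF hi, Calc.bit_eq]

theorem mem_smul_of_fix {g : P24} {a : GolayPt} (h : g a = a) {s : Finset GolayPt} : a ∈ g • s ↔ a ∈ s := by
  conv_lhs => rw [← h]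
  exact apply_mem_smul_iff g

theorem cls_m22_hexad {p q : GolayPt} (hpq : p ≠ q) {o : Finset GolayPt} (ho : o ∈ octads) (hp : p ∈ o)
    (hq : q ∈ o) : Cls (stabilizer M24 p ⊓ stabilizer M24 q ⊓ stabilizer M24 o) {y | y ∈ octads ∧ p ∈ y ∧ q ∈ y}
      (fun y => (o ∩ y).card) [(8, 1), (2, 16), (4, 60)] := by
  obtain ⟨g, rfl, h⟩ := exists_map_octad ho (l := [G.pt 23, G.pt 0]) (l' := [p, q]) (by decide) (by simp [hpq]) rfl
    (by simp) (List.forall_mem_cons.2 ⟨pt_mem (by decide), List.forall_mem_singleton.2 (pt_mem (by decide))⟩) (by simp [hp, hq])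
  simp only [List.map_cons, List.cons.injEq] at h
  obtain ⟨rfl, rfl, -⟩ := h
  exact (cls_of_clsM ((mem22.inf memO).list (l := [979373241916666856905333014163162272, 967982097243699291433551351234738272]) (by decide +kernel))
    (φ := fun y => (G.toF 8536111 ∩ y).card) (Ω := {y | y ∈ octads ∧ G.pt 23 ∈ y ∧ G.pt 0 ∈ y})
    (tΩ := fun m => band (isOct m) (band (Calc.bit m 23) (Calc.bit m 0)))
    (fun g hg y hy => ⟨⟨(smul_mem_octads g.2).2 hy.1, (mem_smul_of_fix hg.1.1).2 hy.2.1,
      (mem_smul_of_fix hg.1.2).2 hy.2.2⟩, card_inter_smul hg.2 y⟩)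
    (fun m _ h => ⟨by
      simp only [band_eq_true] at h
      exact ⟨mem_octads_of_isOct h.1, (pt_mem_iff (by norm_num) _).2 h.2.1, (pt_mem_iff (by norm_num) _).2 h.2.2⟩,
      card_inter_toF (by norm_num) m⟩)
    ((ncard_octads_filter _ (fun m => band (Calc.bit m 23) (Calc.bit m 0)) fun m _ _ => by
      rw [band_eq_true, pt_mem_iff (by norm_num), pt_mem_iff (by norm_num)]).trans (by decide +kernel : _ = 77))
    (by decide +kernel : clsO _ _ _ _ [(8536111, 8, 1), (8499969, 2, 16), (8391797, 4, 60)] = true)).cj (((cjPt rfl).inf (cjPt rfl)).inf (cjSt rfl))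
    (fun _ => and_congr (smul_mem_octads g.2) (and_congr (apply_mem_smul_iff _) (apply_mem_smul_iff _)))
    fun y _ => card_smul_inter g _ y

theorem heptad_test {m : ℕ} (h : band (isOct m) (band (Calc.bit m 23) (!Calc.bit m 0)) = true) :
    G.toF m ∈ octads ∧ G.pt 23 ∈ G.toF m ∧ G.pt 0 ∉ G.toF m := by
  simp only [band_eq_true] at h
  exact ⟨mem_octads_of_isOct h.1, (pt_mem_iff (by norm_num) _).2 h.2.1, by
    rw [pt_mem_iff (by norm_num)]; simpa using h.2.2⟩

theorem ncard_heptads0 : {y | y ∈ octads ∧ G.pt 23 ∈ y ∧ G.pt 0 ∉ y}.ncard = 176 :=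
  (ncard_octads_filter _ (fun m => band (Calc.bit m 23) (!Calc.bit m 0)) fun m _ _ => by
    rw [band_eq_true, pt_mem_iff (by norm_num), pt_mem_iff (by norm_num)]; simp).trans (by decide +kernel)

theorem cls_m22_heptads {p q : GolayPt} (hpq : p ≠ q) :
    Cls (stabilizer M24 p ⊓ stabilizer M24 q) {y | y ∈ octads ∧ p ∈ y ∧ q ∉ y} (fun _ => 0) [(0, 176)] := by
  obtain ⟨g, rfl, rfl⟩ := exists_map2 (a := G.pt 23) (b := G.pt 0) (a' := p) (b' := q) (by decide) (by simp [hpq])
  exact (cls_of_clsM g22_ok (φ := fun _ => 0) (Ω := {y | y ∈ octads ∧ G.pt 23 ∈ y ∧ G.pt 0 ∉ y})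
    (fun g hg y hy => ⟨⟨(smul_mem_octads g.2).2 hy.1, (mem_smul_of_fix hg.1).2 hy.2.1,
      (mem_smul_of_fix hg.2).not.2 hy.2.2⟩, rfl⟩) (fun m _ h => ⟨heptad_test h, rfl⟩) ncard_heptads0
    (by decide +kernel : clsO _ _ (fun _ => 0) _ [(8394986, 0, 176)] = true)).cj ((cjPt rfl).inf (cjPt rfl))
    (fun _ => and_congr (smul_mem_octads g.2) (and_congr (apply_mem_smul_iff _) (apply_mem_smul_iff _).not))
    fun _ _ => rfl

theorem cls_m22_heptad {p q : GolayPt} (hpq : p ≠ q) {o : Finset GolayPt} (ho : o ∈ octads) (hp : p ∈ o)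
    (hq : q ∉ o) : Cls (stabilizer M24 p ⊓ stabilizer M24 q ⊓ stabilizer M24 o) {y | y ∈ octads ∧ p ∈ y ∧ q ∉ y}
      (fun y => (o ∩ y).card) [(8, 1), (2, 70), (4, 105)] := by
  obtain ⟨g, rfl, rfl, rfl⟩ : ∃ g : M24, (g : P24) (G.pt 23) = p ∧ (g : P24) (G.pt 0) = q ∧
      (g : P24) • G.toF 13938692 = o := by
    obtain ⟨g, rfl, rfl⟩ := exists_map2 (a := G.pt 23) (b := G.pt 0) (a' := p) (b' := q) (by decide)
      (by simp [hpq])
    obtain ⟨a, b, c⟩ := heptad_test (m := 13938692) (by decide +kernel)
    obtain ⟨k, h1, h2⟩ := (cls_m22_heptads hpq).exists_smul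
      ⟨(smul_mem_octads g.2).2 a, (apply_mem_smul_iff _).2 b, (apply_mem_smul_iff _).not.2 c⟩ ⟨ho, hp, hq⟩ rfl
    exact ⟨k * g, h1.1, h1.2, (mul_smul (k : P24) _ _).trans h2⟩
  exact (cls_of_clsM ((mem22.inf (Mem.set (by norm_num))).list (l := [978927553775059317109442940092330336, 958647195556473900073716649206958176]) (by decide +kernel))
    (φ := fun y => (G.toF 13938692 ∩ y).card) (Ω := {y | y ∈ octads ∧ G.pt 23 ∈ y ∧ G.pt 0 ∉ y})
    (fun g hg y hy => ⟨⟨(smul_mem_octads g.2).2 hy.1, (mem_smul_of_fix hg.1.1).2 hy.2.1,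
      (mem_smul_of_fix hg.1.2).not.2 hy.2.2⟩, card_inter_smul hg.2 y⟩)
    (fun m _ h => ⟨heptad_test h, card_inter_toF (by norm_num) m⟩) ncard_heptads0
    (by decide +kernel : clsO _ _ _ _ [(13938692, 8, 1), (8394986, 2, 70), (8401364, 4, 105)] = true)).cj (((cjPt rfl).inf (cjPt rfl)).inf (cjSt rfl))
    (fun _ => and_congr (smul_mem_octads g.2) (and_congr (apply_mem_smul_iff _) (apply_mem_smul_iff _).not))
    fun y _ => card_smul_inter g _ y

theorem cls_m23_heptad {p : GolayPt} {o : Finset GolayPt} (ho : o ∈ octads) (hp : p ∈ o) :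
    Cls (stabilizer M24 p ⊓ stabilizer M24 o) {y | y ∈ octads ∧ p ∈ y} (fun y => (o ∩ y).card) [(8, 1), (2, 112), (4, 140)] := by
  obtain ⟨g, rfl, h⟩ := exists_map_octad ho (l := [G.pt 23]) (l' := [p]) (by decide) (by simp) rfl
    (by simp) (List.forall_mem_singleton.2 (pt_mem (by decide))) (by simp [hp])
  obtain rfl := (List.cons.inj h).1
  exact (cls_of_clsM ((mem23.inf memO).list (l := [969159911824875790592287818447355985, 977058562664725153879109130044085283]) (by decide +kernel))
    (φ := fun y => (G.toF 8536111 ∩ y).card) (Ω := {y | y ∈ octads ∧ G.pt 23 ∈ y})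
    (tΩ := fun m => band (isOct m) (Calc.bit m 23))
    (fun g hg y hy => ⟨⟨(smul_mem_octads g.2).2 hy.1, (mem_smul_of_fix hg.1).2 hy.2⟩, card_inter_smul hg.2 y⟩)
    (fun m _ h => ⟨⟨mem_octads_of_isOct (band_eq_true.1 h).1, (pt_mem_iff (by norm_num) _).2 (band_eq_true.1 h).2⟩,
      card_inter_toF (by norm_num) m⟩)
    ((ncard_octads_filter _ (fun m => Calc.bit m 23) fun m _ _ => pt_mem_iff (by norm_num) m).trans
      (by decide +kernel : _ = 253))
    (by decide +kernel : clsO _ _ _ _ [(8536111, 8, 1), (8401364, 2, 112), (8391797, 4, 140)] = true)).cj ((cjPt rfl).inf (cjSt rfl))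
    (fun _ => and_congr (smul_mem_octads g.2) (apply_mem_smul_iff _)) fun y _ => card_smul_inter g _ y

theorem exists_map_octad_out {o : Finset GolayPt} (ho : o ∈ octads) {p : GolayPt} (hp : p ∉ o) :
    ∃ g : M24, (g : P24) • G.toF 8536111 = o ∧ (g : P24) (G.pt 4) = p := by
  obtain ⟨g, rfl⟩ := exists_smul_octad oct0_mem ho
  have h1 : (g : P24)⁻¹ p ∈ G.toF 8241104 := by
    rw [← sdiff_toF (a := 16777215) (b := 8536111) (by decide +kernel), toF_full]
    exact mem_sdiff.2 ⟨mem_univ _, fun e => hp (Finset.inv_smul_mem_iff.1 e)⟩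
  obtain ⟨k, a, b⟩ := exists_map_mask_list
    (((((chO.tail rfl).tail rfl).tail rfl).tail rfl).tail rfl |>.tail rfl).w (m := 8241104)
    (fun _ h => smul_toF_compl h.1.1.1.1.1.1 (by decide +kernel)) (l := [G.pt 4]) (l' := [(g : P24)⁻¹ p])
    (by decide +kernel) (by simp) (by simp) rfl (List.forall_mem_singleton.2 (pt_mem (by decide)))
    (List.forall_mem_singleton.2 h1)
  refine ⟨g * k, by rw [Subgroup.coe_mul, mul_smul, show (k : P24) • G.toF 8536111 = _ from a.1.1.1.1.1.1], ?_⟩
  rw [Subgroup.coe_mul, Equiv.Perm.mul_apply, (List.cons.inj b).1, Equiv.Perm.inv_def, Equiv.apply_symm_apply]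

theorem cls_m23_octad {p : GolayPt} {o : Finset GolayPt} (ho : o ∈ octads) (hp : p ∉ o) :
    Cls (stabilizer M24 p ⊓ stabilizer M24 o) {y | y ∈ octads ∧ p ∉ y} (fun y => (o ∩ y).card) [(8, 1), (0, 15), (4, 210), (2, 280)] := by
  obtain ⟨g, rfl, rfl⟩ := exists_map_octad_out ho hp
  exact (cls_of_clsM (((Mem.pt (by norm_num)).inf memO).list (l := [977026751446667377760655891096502306, 719918129877608897966431398474552791]) (by decide +kernel))
    (φ := fun y => (G.toF 8536111 ∩ y).card) (Ω := {y | y ∈ octads ∧ G.pt 4 ∉ y})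
    (tΩ := fun m => band (isOct m) (!Calc.bit m 4))
    (fun g hg y hy => ⟨⟨(smul_mem_octads g.2).2 hy.1, (mem_smul_of_fix hg.1).not.2 hy.2⟩, card_inter_smul hg.2 y⟩)
    (fun m _ h => ⟨⟨mem_octads_of_isOct (band_eq_true.1 h).1, by
      rw [pt_mem_iff (by norm_num)]; simpa using (band_eq_true.1 h).2⟩, card_inter_toF (by norm_num) m⟩)
    ((ncard_octads_filter _ (fun m => !Calc.bit m 4) fun m _ _ => by rw [pt_mem_iff (by norm_num)]; simp).trans
      (by decide +kernel : _ = 506))
    (by decide +kernel : clsO _ _ _ _ [(8536111, 8, 1), (337856, 0, 15), (18147, 4, 210), (15777, 2, 280)] = true)).cj ((cjPt rfl).inf (cjSt rfl))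
    (fun _ => and_congr (smul_mem_octads g.2) (apply_mem_smul_iff _).not) fun y _ => card_smul_inter g _ y

theorem cls_m23_dodecad {p : GolayPt} {d : Finset GolayPt} (hd : d ∈ dodecads) (hp : p ∈ d) :
    Cls (stabilizer M24 d ⊓ stabilizer M24 p) {y | y ∈ dodecads ∧ p ∈ y} (fun y => (d ∩ y).card) [(12, 1), (4, 165), (8, 330), (6, 792)] := by
  obtain ⟨g, rfl, rfl, h⟩ := cj11 hd hp
  exact (cls_of_clsM g11_ok (φ := fun y => (G.toF 340831 ∩ y).card) (Ω := {y | y ∈ dodecads ∧ G.pt 0 ∈ y})
    (tΩ := fun m => band (isDod m) (Calc.bit m 0))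
    (fun g hg y hy => ⟨⟨(smul_mem_dodecads g.2).2 hy.1, (mem_smul_of_fix hg.2).2 hy.2⟩, card_inter_smul hg.1 y⟩)
    (fun m _ h => ⟨⟨mem_dodecads_of_isDod (band_eq_true.1 h).1,
      (pt_mem_iff (by norm_num) _).2 (band_eq_true.1 h).2⟩, card_inter_toF (by norm_num) m⟩)
    ((ncard_dodecads_filter _ (fun m => Calc.bit m 0) fun m _ _ => pt_mem_iff (by norm_num) m).trans
      (by decide +kernel : _ = 1288))
    (by decide +kernel : clsD _ _ _ _ [(340831, 12, 1), (1727659, 4, 165), (28637, 8, 330), (195645, 6, 792)] = true)).cj h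
    (fun _ => and_congr (smul_mem_dodecads g.2) (apply_mem_smul_iff _)) fun y _ => card_smul_inter g _ y

theorem ncard_duads_avoiding {p q : GolayPt} (hpq : p ≠ q) :
    {t : Finset GolayPt | t.card = 2 ∧ p ∉ t ∧ q ∉ t}.ncard = 231 := by
  have : (powersetCard 2 ({p, q}ᶜ : Finset GolayPt)).card = 231 := by
    rw [card_powersetCard, card_compl, card_pair hpq, card_golayPt]; rfl
  rw [← this, ← Set.ncard_coe_finset]
  congr 1
  ext t
  rw [mem_coe, mem_powersetCard, subset_compl_comm, insert_subset_iff, singleton_subset_iff, mem_compl, mem_compl]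
  exact and_comm

theorem cls_m22_duad {p q : GolayPt} (hpq : p ≠ q) {s : Finset GolayPt} (hs : s.card = 2 ∧ p ∉ s ∧ q ∉ s) :
    Cls (stabilizer M24 p ⊓ stabilizer M24 q ⊓ stabilizer M24 s) {t | t.card = 2 ∧ p ∉ t ∧ q ∉ t}
      (fun y => (s ∩ y).card + 4 * inOct (insert p (insert q (s ∪ y)))) [(6, 1), (5, 40), (4, 30), (0, 160)] := by
  obtain ⟨a, b, hab, rfl⟩ := card_eq_two.1 hs.1
  obtain ⟨-, h1, h2⟩ := hs
  simp only [mem_insert, mem_singleton, not_or] at h1 h2
  obtain ⟨g, rfl, rfl, rfl, rfl⟩ := exists_map4 (a := G.pt 23) (b := G.pt 0) (c := G.pt 1) (d := G.pt 2)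
    (a' := p) (b' := q) (c' := a) (d' := b) (by decide) (by simp [hpq, hab, h1, h2])
  have e : ({(g : P24) (G.pt 1), (g : P24) (G.pt 2)} : Finset GolayPt) = (g : P24) • G.toF 6 := by
    rw [show G.toF 6 = {G.pt 1, G.pt 2} by decide +kernel, smul_finset_insert, smul_finset_singleton]; rfl
  rw [e]
  have key : ∀ (g : M24) p q s y, ((g : P24) • s ∩ (g : P24) • y).card +
      4 * inOct (insert ((g : P24) p) (insert ((g : P24) q) ((g : P24) • s ∪ (g : P24) • y))) =
      (s ∩ y).card + 4 * inOct (insert p (insert q (s ∪ y))) := fun g p q s y => by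
    rw [card_smul_inter, ← inOct_smul g.2 (insert p _), smul_finset_insert, smul_finset_insert, smul_finset_union]
    rfl
  exact (cls_of_clsM ((mem22.inf (Mem.set (by norm_num))).list (l := [980595807899420932813686153949742144, 979605663710552567960821436569322560]) (by decide +kernel))
    (φ := fun y => (G.toF 6 ∩ y).card + 4 * inOct (insert (G.pt 23) (insert (G.pt 0) (G.toF 6 ∪ y))))
    (Ω := {t | t.card = 2 ∧ G.pt 23 ∉ t ∧ G.pt 0 ∉ t})
    (tΩ := fun m => band (Nat.beq (pc m) 2) (band (!Calc.bit m 23) (!Calc.bit m 0)))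
    (f := fun m => pc (Nat.land 6 m) + 4 * inOctC (Nat.lor (Nat.lor (Nat.lor 6 m) (2 ^ 0)) (2 ^ 23)))
    (fun g hg y hy => ⟨⟨(card_smul_finset (g : P24) y).trans hy.1, (mem_smul_of_fix hg.1.1).not.2 hy.2.1,
      (mem_smul_of_fix hg.1.2).not.2 hy.2.2⟩, by
      rw [← key g _ _ _ y, show (g : P24) • G.toF 6 = _ from hg.2, show (g : P24) (G.pt 23) = _ from hg.1.1,
        show (g : P24) (G.pt 0) = _ from hg.1.2]⟩)
    (fun m hm h => ⟨by
      simp only [band_eq_true] at h
      exact ⟨card_eq_of_beq hm h.1, by rw [pt_mem_iff (by norm_num)]; simpa using h.2.1,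
        by rw [pt_mem_iff (by norm_num)]; simpa using h.2.2⟩, by
      rw [card_inter_toF (by norm_num) m, ← G.toF_lor, ← G.toF_insert _ (by decide), ← G.toF_insert _ (by decide),
        inOct_lor (a := Nat.lor (Nat.lor 6 m) (2 ^ 0)) (Nat.or_lt_two_pow (Nat.or_lt_two_pow (by norm_num) hm) (by norm_num))
          (by norm_num)]⟩) (ncard_duads_avoiding (by decide))
    (by decide +kernel : clsM _ 0x1a0001000800020000000800020007000a000d0008006c00050001000b000200010007000100150040000f0000001d0006000600020003001100000016000300000002000500050001000200000000000000020003000a000300020000000f000200180004000f000f000400000004001000170000000500080008000d000000080009000400050000001b000200090003000100070000000200000000 79 3344557 349 _ _ _ [(6, 6, 1), (10, 5, 40), (40, 4, 30), (24, 0, 160)] = true)).cj (((cjPt rfl).inf (cjPt rfl)).inf (cjSt rfl))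
    (fun y => and_congr (by rw [← card_smul_finset (g : P24) y]; rfl)
      (and_congr (apply_mem_smul_iff _).not (apply_mem_smul_iff _).not)) fun y _ => key g _ _ _ y

end Cfsg.Lib.Mathieu
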