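import Cfsg.Agent.Lib.Mathieu.M24
import Cfsg.Agent.Lib.Mathieu.Conj

/-!
# The groups `M23`, `M22`, `M21`, `M12`, `M11` inside `M24`: chains, orders, simplicity
-/

set_option autoImplicit false

namespace Cfsg.Lib.Mathieu

open Cfsg.Lib.Golay Cfsg.Lib.Calc Finset MulAction
open scoped Pointwise

/-! ### Membership tests -/

/-- the test `t` decides membership in `H` -/
def Mem (H : Subgroup M24) (t : ℕ → Bool) : Prop := ∀ g c, R g c → (g ∈ H ↔ t c = true)

/-- fixes the point `i` -/
def tPt (i c : ℕ) : Bool := Nat.beq (get 5 c i) i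
/-- fixes the set `m` -/
noncomputable def tSet (m c : ℕ) : Bool := Nat.beq (img c m) m
/-- fixes the family `x` -/
noncomputable def tFam (k x c : ℕ) : Bool := eqS k (pack (nat_lit 24) (fun i => img c (g24 x i)) k) x
/-- both tests -/
noncomputable def tAnd (t t' : ℕ → Bool) (c : ℕ) : Bool := band (t c) (t' c)
/-- member of `M24` passing the test -/
noncomputable def tOK (t : ℕ → Bool) (c : ℕ) : Bool := band (okM c) (t c)

theorem Mem.top : Mem ⊤ fun _ => true := fun _ _ _ => by simp
theorem Mem.pt {i : ℕ} (hi : i < 24) : Mem (stabilizer M24 (G.pt i)) (tPt i) := fun _ _ h => by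
  rw [h.mem_stab_pt hi, tPt, beq_iff]
theorem Mem.set {m : ℕ} (hm : m < 2 ^ 24) : Mem (stabilizer M24 (G.toF m)) (tSet m) := fun _ _ h => by
  rw [h.mem_stab_set hm, tSet, beq_iff]
theorem Mem.fam (k x : ℕ) : Mem (stabilizer M24 (decS k x)) (tFam k x) := fun _ c h => by
  rw [h.mem_stab_fam, tFam, actS]
  rw [pack_congr (g := fun i => img c (g24 x i)) fun i _ => by rw [force_eq, Rp.fimg h]]
theorem Mem.inf {H K : Subgroup M24} {t t' : ℕ → Bool} (h : Mem H t) (h' : Mem K t') : Mem (H ⊓ K) (tAnd t t') :=
  fun g c e => by rw [Subgroup.mem_inf, h g c e, h' g c e, tAnd, band_eq_true]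

theorem Mem.mk_mem {H : Subgroup M24} {t : ℕ → Bool} (h : Mem H t) {c : ℕ} (hc : tOK t c = true) :
    mk c ∈ H ∧ R (mk c) c := by
  rw [tOK, band_eq_true] at hc
  exact ⟨(h _ _ (mk_rep hc.1)).2 hc.2, mk_rep hc.1⟩

theorem Mem.exists {H : Subgroup M24} {t : ℕ → Bool} (h : Mem H t) {c : ℕ} (hc : tOK t c = true) :
    ∃ g ∈ H, R g c := ⟨_, h.mk_mem hc⟩

theorem Mem.list {H : Subgroup M24} {t : ℕ → Bool} (h : Mem H t) {l : List ℕ}
    (hl : Calc.allL l (tOK t) = true) : ∀ c ∈ l, ∃ g ∈ H, R g c := fun c hc => h.exists (Calc.allL_iff.1 hl c hc)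

theorem Mem.wChain {H : Subgroup M24} {t : ℕ → Bool} (h : Mem H t) {L : List (ℕ × List ℕ)}
    (hL : wOK 24 5 (tOK t) L [] = true) : WChain 24 5 G.pt L H := wChain_of_wOK (fun _ => h.exists) hL

/-- a complete chain for `H` -/
structure Ch (L : List (ℕ × List ℕ)) (H : Subgroup M24) : Prop where
  w : WChain 24 5 G.pt L H
  s : SChain 5 G.pt L H

theorem Ch.of_card {L : List (ℕ × List ℕ)} {H : Subgroup M24} (h : WChain 24 5 G.pt L H)
    (hc : Nat.card H ≤ chSize L) : Ch L H := ⟨h, h.sChain inj_pt hc⟩

theorem Ch.card {L : List (ℕ × List ℕ)} {H : Subgroup M24} (h : Ch L H) : Nat.card H = chSize L :=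
  h.w.card_eq inj_pt h.s

theorem Ch.tail {L : List (ℕ × List ℕ)} {H : Subgroup M24} (h : Ch L H) {b : ℕ}
    (hb : (L.map Prod.fst).head? = some b) : Ch L.tail (H ⊓ stabilizer M24 (G.pt b)) := by
  cases L with
  | nil => simp at hb
  | cons l L =>
    obtain rfl : l.1 = b := by simpa using hb
    exact ⟨h.w.2.2.2, h.s.2⟩

/-- the table of the identity -/
def id24 : ℕ := 984818244535754528103549039458486304

theorem id24_eq : id24 = idc 24 5 := by decide +kernel

theorem R.one : R 1 id24 := id24_eq ▸ Rep.one (by norm_num)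

theorem R.eq_one_iff {g : M24} {c : ℕ} (h : R g c) : g = 1 ↔ c = id24 :=
  ⟨fun e => h.code_eq inj_pt (e ▸ R.one), fun e => h.eq (e ▸ R.one)⟩

theorem R.eq_iff {g g' : M24} {c c' : ℕ} (h : R g c) (h' : R g' c') : g = g' ↔ c = c' :=
  ⟨fun e => h.code_eq inj_pt (e ▸ h'), fun e => h.eq (e ▸ h')⟩

/-- product of tables -/
noncomputable def mulT (c d : ℕ) : ℕ := apK 24 5 c (hot 24 5 d)

theorem R.mulT {g h : M24} {c d : ℕ} (hg : R g c) (hh : R h d) : R (g * h) (mulT c d) :=
  hg.apK (by norm_num) (by norm_num) hh

/-- power of a table -/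
noncomputable def powT (c k : ℕ) : ℕ :=
  Nat.rec (motive := fun _ => ℕ) id24 (fun _ ih => force ih fun a => mulT a c) k

theorem R.powT {g : M24} {c : ℕ} (h : R g c) (k : ℕ) : R (g ^ k) (powT c k) := by
  induction k with
  | zero => exact R.one
  | succ k ih =>
    change R _ (force (Mathieu.powT c k) fun a => Mathieu.mulT a c)
    rw [force_eq, pow_succ]; exact ih.mulT h

theorem R.pow_eq_one_iff {g : M24} {c : ℕ} (h : R g c) (k : ℕ) : g ^ k = 1 ↔ Mathieu.powT c k = id24 :=
  (h.powT k).eq_one_iff

theorem R.orderOf_eq_prime {g : M24} {c : ℕ} (h : R g c) {p : ℕ} (hp : p.Prime) :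
    orderOf g = p ↔ Mathieu.powT c p = id24 ∧ c ≠ id24 := by
  haveI := Fact.mk hp
  rw [orderOf_eq_prime_iff, h.pow_eq_one_iff, Ne, h.eq_one_iff]

/-- Counting the elements of `H` with a property. -/
theorem Ch.ncard {L : List (ℕ × List ℕ)} {H : Subgroup M24} (h : Ch L H) {P : ℕ → Bool} {Q : M24 → Prop}
    (hQ : ∀ g ∈ H, ∀ d, R g d → (Q g ↔ P d = true)) :
    {k | k ∈ H ∧ Q k}.ncard = cntCh 24 5 P (fun _ _ => true) L [] id24 :=
  id24_eq ▸ cntCh_spec inj_pt (by norm_num) (by norm_num) hQ (fun _ _ _ _ _ _ _ _ => rfl) h.w h.s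

/-- all products `a * t₁ * ⋯ * tₖ` pass the test `B` -/
noncomputable def allCh (B : ℕ → Bool) (L : List (ℕ × List ℕ)) (a : ℕ) : Bool :=
  Nat.beq (cntCh 24 5 (fun d => !B d) (fun _ _ => true) L [] a) 0

/-- All elements of `H` pass a test. -/
theorem Ch.forall {L : List (ℕ × List ℕ)} {H : Subgroup M24} (h : Ch L H) {B : ℕ → Bool}
    (e : allCh B L id24 = true) {g : M24} (hg : g ∈ H) {d : ℕ} (hd : R g d) : B d = true :=
  forall_ch inj_pt faithful_M24 (by norm_num) (by norm_num) (fun _ => True) (fun _ _ _ _ _ _ _ => rfl) h.w h.s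
    (id24_eq ▸ e) hg trivial hd

/-- All elements of the coset `a H` pass a test. -/
theorem Ch.forall_coset {L : List (ℕ × List ℕ)} {H : Subgroup M24} (h : Ch L H) {B : ℕ → Bool} {a : M24} {c : ℕ}
    (ha : R a c) (e : allCh B L c = true) {g : M24} (hg : a⁻¹ * g ∈ H) {d : ℕ} (hd : R g d) : B d = true :=
  Mathieu.forall_coset inj_pt faithful_M24 (by norm_num) (by norm_num) (fun _ => True) (fun _ _ _ _ _ _ _ => rfl)
    h.w h.s ha e hg trivial (by rwa [mul_inv_cancel_left])

theorem mem_toF_ex {m : ℕ} : ∀ x ∈ (G.toF m : Set GolayPt), ∃ i, m.testBit i = true ∧ G.pt i = x :=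
  fun x hx => ⟨G.idx x, G.mem_toF.1 hx, G.pt_idx x⟩

/-- multiple transitivity on an invariant set -/
theorem exists_map_mask {L : List (ℕ × List ℕ)} {H : Subgroup M24} (h : WChain 24 5 G.pt L H) {m k : ℕ}
    (hS : ∀ g ∈ H, (g : P24) • G.toF m = G.toF m) (hc : covOK 5 L k m = true) (x y : Fin k → GolayPt)
    (hx : ∀ i, x i ∈ G.toF m) (hy : ∀ i, y i ∈ G.toF m) (hx' : Function.Injective x)
    (hy' : Function.Injective y) : ∃ g ∈ H, ∀ i, (g : P24) (x i) = y i :=
  exists_map_of_cov' h (S := G.toF m) (fun g hg _ hx => (apply_mem_iff (hS g hg)).2 hx)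
    (cov_of_covOK mem_toF_ex hc) x y hx hy hx' hy'

theorem exists_map_mask_list {L : List (ℕ × List ℕ)} {H : Subgroup M24} (h : WChain 24 5 G.pt L H) {m : ℕ}
    (hS : ∀ g ∈ H, (g : P24) • G.toF m = G.toF m) {l l' : List GolayPt} (hc : covOK 5 L l.length m = true)
    (hl : l.Nodup) (hl' : l'.Nodup) (e : l.length = l'.length) (h1 : ∀ x ∈ l, x ∈ G.toF m)
    (h2 : ∀ x ∈ l', x ∈ G.toF m) : ∃ g ∈ H, l.map (g : P24) = l' := by
  obtain ⟨g, a, hg⟩ := exists_map_mask h hS hc l.get (fun i => l'.get (i.cast e))
    (fun i => h1 _ (List.get_mem _ _)) (fun i => h2 _ (List.get_mem _ _)) (List.nodup_iff_injective_get.1 hl)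
    ((List.nodup_iff_injective_get.1 hl').comp (Fin.cast_injective e))
  refine ⟨g, a, List.ext_get (by simpa using e) fun i h1 h2 => ?_⟩
  simpa using hg ⟨i, by simpa using h1⟩

theorem twoTr_mask {L : List (ℕ × List ℕ)} {H : Subgroup M24} (h : WChain 24 5 G.pt L H) {m : ℕ}
    (hS : ∀ g ∈ H, (g : P24) • G.toF m = G.toF m) (hc : covOK 5 L 2 m = true) {l : List (ℕ × ℕ)}
    (hf : closeOK l m 16777215 = true) : TwoTr H (G.toF m : Set GolayPt) :=
  twoTr_of_cov h (fun g hg _ hx => (apply_mem_iff (hS g hg)).2 hx) (cov_of_covOK mem_toF_ex hc)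
    fun g _ e => Subtype.ext (eq_one_of_closeOK g.2 hf e)

theorem smul_sdiff_maskL {g : P24} {S m : ℕ} (l : List ℕ) (hS : g • G.toF S = G.toF S)
    (h : ∀ b ∈ l, g (G.pt b) = G.pt b) (e : Nat.beq (Nat.xor S (Nat.land S (maskL l))) m = true) :
    g • G.toF m = G.toF m := by
  rw [← beq_iff.1 e, G.toF_sdiff, Finset.smul_finset_sdiff, hS, smul_eq_of_fix (fix_maskL h)]

theorem cjPt {g : M24} {a a' : GolayPt} (h : (g : P24) a = a') : Cj g (stabilizer M24 a) (stabilizer M24 a') :=
  Cj.stab h

theorem cjSt {X : Type*} [MulAction P24 X] {g : M24} {a a' : X} (h : (g : P24) • a = a') :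
    Cj g (stabilizer M24 a) (stabilizer M24 a') := Cj.stab h

theorem ncard_toF {m : ℕ} (hm : m < 2 ^ 24) : (G.toF m : Set GolayPt).ncard = pc m := by
  rw [Set.ncard_coe_finset, card_toF hm]

/-- a lower bound for subgroups of `M24` containing given elements -/
theorem le_card_gen {C D : List ℕ} {r : ℕ} (hr : 0 < r) {N : Subgroup M24}
    (hm : ∀ a < r, ∃ g ∈ N, R g (nth C a)) {L : List (ℕ × List ℕ × ℕ)}
    (h : genOK 24 5 C D r L = true) : (L.map fun l => l.2.2).prod ≤ Nat.card N :=
  le_card_of_genOK inj_pt faithful_M24 (by norm_num) (by norm_num) hr hm h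

/-- test: the first `r` tables belong to `H` and have `p`-th power `1`, and they generate a group of order `≥ N` -/
noncomputable def pgenOK (t : ℕ → Bool) (p N : ℕ) (C D : List ℕ) (r : ℕ) (L : List (ℕ × List ℕ × ℕ)) : Bool :=
  band (band (blt 0 r) (allLt r fun a => band (tOK t (nth C a)) (Nat.beq (powT (nth C a) p) id24)))
    (band (genOK 24 5 C D r L) (Nat.ble N (L.map fun l => l.2.2).prod))

theorem Mem.le_of_pgenOK {H : Subgroup M24} {t : ℕ → Bool} (h : Mem H t) {p n : ℕ} (hn : Nat.card H = n)
    {C D : List ℕ} {r : ℕ} {L : List (ℕ × List ℕ × ℕ)} (e : pgenOK t p n C D r L = true) (N : Subgroup M24)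
    (hN : ∀ a ∈ H, a ^ p = 1 → a ∈ N) : Nat.card H ≤ Nat.card N := by
  simp only [pgenOK, band_eq_true, blt_iff, allLt_iff, beq_iff, ble_iff] at e
  obtain ⟨⟨h1, h2⟩, h3, h4⟩ := e
  refine hn.le.trans (h4.trans (le_card_gen h1 (fun a ha => ?_) h3))
  obtain ⟨h5, h6⟩ := h.mk_mem (h2 a ha).1
  exact ⟨_, hN _ h5 ((h6.pow_eq_one_iff p).2 (h2 a ha).2), h6⟩

theorem ne_bot_of_card {A : Type*} [Group A] {H : Subgroup A} {n : ℕ} (h : Nat.card H = n) (hn : n ≠ 1) : H ≠ ⊥ := by
  rintro rfl
  exact hn (by rw [← h]; simp)

/-! ### `M23`, `M22`, `M21` -/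

/-- stabiliser of `∞` -/
abbrev m23 : Subgroup M24 := stabilizer M24 (G.pt 23)
/-- stabiliser of `∞, 0` -/
abbrev m22 : Subgroup M24 := m23 ⊓ stabilizer M24 (G.pt 0)
/-- stabiliser of `∞, 0, 1` -/
abbrev m21 : Subgroup M24 := m22 ⊓ stabilizer M24 (G.pt 1)
/-- stabiliser of `∞, 0, 1, 2` -/
abbrev m20 : Subgroup M24 := m21 ⊓ stabilizer M24 (G.pt 2)
/-- stabiliser of `∞, 0, 1, 2, 3` -/
abbrev m19 : Subgroup M24 := m20 ⊓ stabilizer M24 (G.pt 3)

theorem ch24 : Ch L24 ⊤ := ⟨wL24, sL24⟩
theorem ch23 : Ch L24.tail m23 := top_inf_eq m23 ▸ ch24.tail rfl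
theorem ch22 : Ch L24.tail.tail m22 := ch23.tail rfl
theorem ch21 : Ch L24.tail.tail.tail m21 := ch22.tail rfl
theorem ch20 : Ch L24.tail.tail.tail.tail m20 := ch21.tail rfl
theorem ch19 : Ch L24.tail.tail.tail.tail.tail m19 := ch20.tail rfl

theorem card_m23 : Nat.card m23 = 10200960 := by rw [ch23.card]; decide +kernel
theorem card_m22 : Nat.card m22 = 443520 := by rw [ch22.card]; decide +kernel
theorem card_m21 : Nat.card m21 = 20160 := by rw [ch21.card]; decide +kernel
theorem card_m20 : Nat.card m20 = 960 := by rw [ch20.card]; decide +kernel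
theorem card_m19 : Nat.card m19 = 48 := by rw [ch19.card]; decide +kernel

theorem mem23 : Mem m23 (tPt 23) := Mem.pt (by norm_num)
theorem mem22 : Mem m22 (tAnd (tPt 23) (tPt 0)) := mem23.inf (Mem.pt (by norm_num))
theorem mem21 : Mem m21 (tAnd (tAnd (tPt 23) (tPt 0)) (tPt 1)) := mem22.inf (Mem.pt (by norm_num))

theorem twoTr24 : TwoTr (⊤ : Subgroup M24) (G.toF 16777215 : Set GolayPt) :=
  twoTr_mask wL24 (fun _ _ => smul_toF_full _) (by decide +kernel) (l := []) (by decide +kernel)
theorem twoTr23 : TwoTr m23 (G.toF 8388607 : Set GolayPt) :=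
  twoTr_mask ch23.w (fun _ h => smul_sdiff_maskL [23] (smul_toF_full _) (List.forall_mem_singleton.2 h)
    (by decide +kernel))
    (by decide +kernel) (l := [(13062145, 13062145)]) (by decide +kernel)
theorem twoTr22 : TwoTr m22 (G.toF 8388606 : Set GolayPt) :=
  twoTr_mask ch22.w (fun _ h => smul_sdiff_maskL [23, 0] (smul_toF_full _)
    (List.forall_mem_cons.2 ⟨h.1, List.forall_mem_singleton.2 h.2⟩) (by decide +kernel))
    (by decide +kernel) (l := [(13062145, 13938692), (13062145, 13062145)]) (by decide +kernel)
theorem twoTr21 : TwoTr m21 (G.toF 8388604 : Set GolayPt) :=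
  twoTr_mask ch21.w (fun _ h => smul_sdiff_maskL [23, 0, 1] (smul_toF_full _)
    (List.forall_mem_cons.2 ⟨h.1.1, List.forall_mem_cons.2 ⟨h.1.2, List.forall_mem_singleton.2 h.2⟩⟩)
    (by decide +kernel))
    (by decide +kernel) (l := [(13062145, 13938692), (13062145, 13062145), (4845570, 4845570)]) (by decide +kernel)

theorem simple_m23 : IsSimpleGroup m23 :=
  twoTr23.simple_of_prime (p := 23) (by norm_num) ⟨G.pt 0, (G.pt_mem_toF (by decide)).2 (by decide)⟩
    (by rw [ncard_toF (by norm_num)]; decide +kernel) (by rw [card_m23]; norm_num)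
    (ne_bot_of_card card_m23 (by norm_num)) (mem23.le_of_pgenOK card_m23
    (by decide +kernel : pgenOK _ _ _ [970397479915114556402661868751765953, 959895665392728321132342913235701060, 963807840801387361477909096294293856, 963943864100869513741052152308487552, 975396712335117027540447363860111392, 965092371870704037493515213866141728, 969070010755747450349961226246916128, 968708902336673183175954409307867168, 984559288045672395699075860841728032, 975728708050008715525885598301784096, 970499966350631336865513127433832480, 980224387687010295957922729495201824, 968708902336673183175954409307867168, 981818691054096003685363657089320992]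
    [0, 0, 3077, 1703433, 769798, 2192134, 90224158987, 20741999435533, 56325638, 5924608193803, 20172037, 2967300, 51602437, 3943645568514060] 2
    [(0, [0, 1], 23), (1, [2, 3], 22), (2, [4, 5], 21), (3, [5, 6], 20), (5, [7, 8, 9], 3), (4, [10, 11, 12, 13], 16)] = true))

theorem simple_m22 : IsSimpleGroup m22 :=
  twoTr22.simple_of_prime (p := 11) (by norm_num) ⟨G.pt 1, (G.pt_mem_toF (by decide)).2 (by decide)⟩
    (by rw [ncard_toF (by norm_num)]; decide +kernel) (by rw [card_m22]; norm_num)
    (ne_bot_of_card card_m22 (by norm_num)) (mem22.le_of_pgenOK card_m22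
    (by decide +kernel : pgenOK _ _ _ [962489124760123686496779305358894400, 962405975115232302962956841395669184, 968448938522641044816750616568453152, 981806887445081125702349330688657440, 980474875703647333030717197542492192, 977917117102221186485545726083565600, 980874226864350081512017426024335392, 963515095949177277443875056653535264, 976909097487365034896521273070946336, 981818691054096003685363657089320992, 963721886883755259286232606933354528, 983548720921252936276249910206105632, 976448692869377735270425038196672544]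
    [0, 0, 3077, 1956362, 984541707, 407557, 19952798561038, 119293475747854, 3058396168, 7822796361227, 19911369696267, 635446647504908, 181771738461777422] 2
    [(1, [0, 1], 22), (2, [2, 3], 21), (3, [4, 5], 20), (5, [6, 7, 8], 3), (4, [9, 10, 11, 12], 16)] = true))

theorem simple_m21 : IsSimpleGroup m21 :=
  twoTr21.simple_of_prime (p := 7) (by norm_num) ⟨G.pt 2, (G.pt_mem_toF (by decide)).2 (by decide)⟩
    (by rw [ncard_toF (by norm_num)]; decide +kernel) (by rw [card_m21]; norm_num)
    (ne_bot_of_card card_m21 (by norm_num)) (mem21.le_of_pgenOK card_m21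
    (by decide +kernel : pgenOK _ _ _ [981682989121620153453138242630621216, 980633366756115943190648378341232672, 971532617296325999273455818213296160, 973972270124890055923041342091593760, 984436632068016323118584907140532256, 961029066359601346093702817927759904, 980874226864350081512017426024335392, 968708902336673183175954409307867168, 966182099583441531322624363496310816, 967812279691448225500382947153381408, 963721886883755259286232606933354528]
    [0, 0, 3332, 17011211, 11742931469, 10838279, 197380, 62467, 55387398, 61973818377, 141963782] 2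
    [(2, [0, 1], 21), (3, [2, 3], 20), (5, [4, 5, 6], 3), (4, [7, 8, 9, 10], 16)] = true))

theorem simple_M24 : IsSimpleGroup M24 :=
  haveI := twoTr24.simple_of_stab (p := 2) (q := 3) (by norm_num) (by norm_num) (by norm_num)
    (by rw [ncard_toF (by norm_num)]; decide +kernel) (by rw [ncard_toF (by norm_num)]; decide +kernel)
    (x := G.pt 23) ((G.pt_mem_toF (by decide)).2 (by decide)) (by rw [top_inf_eq]; exact simple_m23)
  Subgroup.topEquiv.symm.isSimpleGroup

theorem cj23 (p : GolayPt) : ∃ g : M24, (g : P24) (G.pt 23) = p ∧ Cj g m23 (stabilizer M24 p) := by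
  obtain ⟨g, h⟩ := exists_map1 (G.pt 23) p
  exact ⟨g, h, Cj.stab h⟩

theorem cj22 {p q : GolayPt} (h : p ≠ q) : ∃ g : M24, Cj g m22 (stabilizer M24 p ⊓ stabilizer M24 q) := by
  obtain ⟨g, h1, h2⟩ := exists_map2 (a := G.pt 23) (b := G.pt 0) (a' := p) (b' := q) (by decide) (by simpa using h)
  exact ⟨g, (Cj.stab h1).inf (Cj.stab h2)⟩

theorem cj21 {p q r : GolayPt} (h1 : p ≠ q) (h2 : p ≠ r) (h3 : q ≠ r) :
    ∃ g : M24, Cj g m21 (stabilizer M24 p ⊓ stabilizer M24 q ⊓ stabilizer M24 r) := by
  obtain ⟨g, a, b, c⟩ := exists_map3 (a := G.pt 23) (b := G.pt 0) (c := G.pt 1) (a' := p) (b' := q) (c' := r)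
    (by decide) (by simp [h1, h2, h3])
  exact ⟨g, ((Cj.stab a).inf (Cj.stab b)).inf (Cj.stab c)⟩

/-! ### `M12`, `M11` -/

/-- stabiliser of the dodecad of squares -/
abbrev m12 : Subgroup M24 := stabilizer M24 (G.toF 340831)
/-- stabiliser of the dodecad of squares and of `0` -/
abbrev m11 : Subgroup M24 := m12 ⊓ stabilizer M24 (G.pt 0)
/-- stabiliser of the dodecad of squares and of `0, 1` -/
abbrev m10 : Subgroup M24 := m11 ⊓ stabilizer M24 (G.pt 1)
/-- stabiliser of the dodecad of squares and of `0, 1, 2` -/
abbrev m9 : Subgroup M24 := m10 ⊓ stabilizer M24 (G.pt 2)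
/-- stabiliser of the dodecad of squares and of `0, 1, 2, 3` -/
abbrev m8 : Subgroup M24 := m9 ⊓ stabilizer M24 (G.pt 3)

theorem mem12 : Mem m12 (tSet 340831) := Mem.set (by norm_num)
theorem mem11 : Mem m11 (tAnd (tSet 340831) (tPt 0)) := mem12.inf (Mem.pt (by norm_num))

/-- a chain for `M12` with base `0, 1, 2, 3, 4` -/
def L12 : List (ℕ × List ℕ) :=
  [(0, [984818244535754528103549039458486304, 818732700429524365038206579984401677, 320103779240237750838835341362831750, 235573374829449253098971388041119816, 311078209609062737458925697002177650, 318249348661432099368644911020017232, 464210402111074615270573033535177988, 734932300712776871949983153749543171, 736623303212606495823434131491061804, 466792606305706955297198677006954786, 636531377827548715934359627493344361, 840330139373269063052988721727293825]),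
   (1, [984818244535754528103549039458486304, 650637096153066191528378510017177152, 799156534650760508560073808495722880, 445829796381497103579066533657712896, 487408260932104556966499086462201920, 968953713157755131043491752589957216, 444579703678267439002273954056647968, 475403811109632930373086239080761856, 483296192500053595972850637097936288, 879504355766071328702004546918203584, 796191629937722218680494726083683456]),
   (2, [984818244535754528103549039458486304, 851185833525798761386428388991905824, 235912592559525145725232928982994976, 470721058936465114454329643086783520, 897916913241984914003551997432766496, 321414642276365015797070712075796512, 444164020417145972631842157052900384, 445469500402478623363288594862574624, 964696846094572935608387675442268192, 235426210635759534076841374565832736]),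
   (3, [984818244535754528103549039458486304, 984534996141977609297800625156032544, 796134455581813252778404696041064480, 984769902586367543974814854303385632, 233054687951835244750033064009402400, 608460305594945736333983948957190176, 486349973926430203268823274221996064, 607974513007959930786473204517505056, 716016777081418520089506884598499360]),
   (4, [984818244535754528103549039458486304, 232652365823391711183829569059784736, 608405391266436187982588441666881568, 970499966350631336865513127433832480, 715872302521680643580706198532491296, 719923664328491199848526586197411872, 227578386318009578406903204956702752, 609271311764373893382231684089481248])]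

theorem card_m12 : Nat.card m12 = 95040 := card_stabilizer_dodecad dod0_mem
theorem ch12 : Ch L12 m12 := Ch.of_card (mem12.wChain (by decide +kernel)) (by rw [card_m12]; decide +kernel)
theorem ch11 : Ch L12.tail m11 := ch12.tail rfl
theorem ch10 : Ch L12.tail.tail m10 := ch11.tail rfl
theorem ch9 : Ch L12.tail.tail.tail m9 := ch10.tail rfl
theorem ch8 : Ch L12.tail.tail.tail.tail m8 := ch9.tail rfl
theorem card_m11 : Nat.card m11 = 7920 := by rw [ch11.card]; decide +kernel
theorem card_m10 : Nat.card m10 = 720 := by rw [ch10.card]; decide +kernel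
theorem card_m9 : Nat.card m9 = 72 := by rw [ch9.card]; decide +kernel
theorem card_m8 : Nat.card m8 = 8 := by rw [ch8.card]; decide +kernel

/-- a chain for `M11` with base `∞, 5, 7, …` outside the dodecad -/
def L11c : List (ℕ × List ℕ) :=
  [(23, [984818244535754528103549039458486304, 803120846351016100754208603505799232, 850671444367908957498699167874271616, 923795743978164219175565611753877760, 226736197265158427175452106104702208, 484491864225173778156846596243994112, 887300213182506238556075575598462144, 612030167670522403332998162319259200, 425062877937841854985037567345504288, 313633837322436341590354916366759168, 632626957030127499092961676828446784, 716023986603978169715911651309499648]),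
   (5, [984818244535754528103549039458486304, 983425802329336981026800603528110144, 980267278750625978825541909075118336, 980519080162250007752911425212850688, 984156440611898363672512298701927936, 969890181916314106754665209951006976, 981560291879485053175783847759350848, 984573014673175146587997007573696576, 970294198445089438799834204141527072, 982854559857518763576060873508719680, 975074981857073328387818560804173312]),
   (7, [984818244535754528103549039458486304, 983427744463106577443698771870949664, 965268212504371536791655442989334816, 980958309107290892929826708479459520, 980511541392919065024443518049198272, 965342965745788789474711026298660352, 969958826742993894265839954570609728, 983351572974849664803883075435373632, 982224155767909524168889505747699904, 964937475981399069504140369698620928]),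
   (1, [984818244535754528103549039458486304, 975324830235885707264894193849934112, 975286581787269806245098882677711360]),
   (2, [984818244535754528103549039458486304, 978239198764604640668953934463309856])]

theorem ch11c : Ch L11c m11 := Ch.of_card (mem11.wChain (by decide +kernel)) (by rw [card_m11]; decide +kernel)

theorem twoTr12 : TwoTr m12 (G.toF 340831 : Set GolayPt) :=
  twoTr_mask ch12.w (fun _ h => h) (by decide +kernel) (l := [(3416079, 1413139), (13938692, 1302533), (4845570, 9347075), (4845570, 13938692), (13062145, 4845570), (13062145, 13938692), (13062145, 13062145), (7221256, 7221256), (11952160, 11952160), (2019456, 2019456), (11654144, 11654144), (14919680, 14919680)]) (by decide +kernel)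
theorem twoTr11 : TwoTr m11 (G.toF 340830 : Set GolayPt) :=
  twoTr_mask ch11.w (fun _ h => smul_sdiff_maskL [0] h.1 (List.forall_mem_singleton.2 h.2) (by decide +kernel))
    (by decide +kernel) (l := [(3416079, 12656663), (3416079, 1413139), (13938692, 1302533), (4845570, 9347075), (4845570, 13938692), (13062145, 4845570), (13062145, 13938692), (13062145, 13062145), (7221256, 7221256), (11952160, 11952160), (2019456, 2019456), (11654144, 11654144), (14919680, 14919680)]) (by decide +kernel)

theorem simple_m11 : IsSimpleGroup m11 :=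
  twoTr11.simple_of_prime (p := 11) (by norm_num) ⟨G.pt 1, (G.pt_mem_toF (by decide)).2 (by decide)⟩
    (by rw [ncard_toF (by norm_num)]; decide +kernel) (by rw [card_m11]; norm_num)
    (ne_bot_of_card card_m11 (by norm_num)) (mem11.le_of_pgenOK card_m11
    (by decide +kernel : pgenOK _ _ _ [608400488482449302017471318577258688, 422786321060954425075410161746130432, 923721347694416910904840519870955552, 609744425604512129277147896769742880, 719923664328491199848526586197411872, 608405391266436187982588441666881568]
    [0, 0, 43272, 196767245, 50464533006, 499161353] 2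
    [(1, [0, 1], 11), (2, [2, 3], 10), (3, [3, 4], 9), (4, [4, 5], 8)] = true))

theorem simple_m12 : IsSimpleGroup m12 :=
  twoTr12.simple_of_stab (p := 2) (q := 3) (by norm_num) (by norm_num) (by norm_num)
    (by rw [ncard_toF (by norm_num)]; decide +kernel) (by rw [ncard_toF (by norm_num)]; decide +kernel)
    (x := G.pt 0) ((G.pt_mem_toF (by decide)).2 (by decide)) simple_m11

theorem cj12 {d : Finset GolayPt} (hd : d ∈ dodecads) :
    ∃ g : M24, (g : P24) • G.toF 340831 = d ∧ Cj g m12 (stabilizer M24 d) := by
  obtain ⟨g, h⟩ := exists_smul_dodecad dod0_mem hd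
  exact ⟨g, h, Cj.stab h⟩

/-- `M12` is five-fold transitive on its dodecad -/
theorem exists_map_dodecad {d : Finset GolayPt} (hd : d ∈ dodecads) {l l' : List GolayPt} (hl : l.Nodup)
    (hl' : l'.Nodup) (e : l.length = l'.length) (h5 : l.length ≤ 5) (h1 : ∀ x ∈ l, x ∈ G.toF 340831)
    (h2 : ∀ x ∈ l', x ∈ d) : ∃ g : M24, (g : P24) • G.toF 340831 = d ∧ l.map (g : P24) = l' := by
  obtain ⟨g, rfl⟩ := exists_smul_dodecad dod0_mem hd
  have : ∀ k ≤ 5, covOK 5 L12 k 340831 = true := by decide +kernel
  obtain ⟨k, a, b⟩ := exists_map_mask_list ch12.w (fun _ h => h) (this _ h5) hl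
    (hl'.map (g : P24)⁻¹.injective) (by simpa using e) h1 (by
      simp only [List.mem_map]
      rintro _ ⟨x, hx, rfl⟩
      exact Finset.inv_smul_mem_iff.2 (h2 x hx))
  refine ⟨g * k, by rw [Subgroup.coe_mul, mul_smul, show (k : P24) • G.toF 340831 = _ from a], ?_⟩
  rw [Subgroup.coe_mul, Equiv.Perm.coe_mul, ← List.map_map, b, List.map_map]
  simp

theorem cj11 {d : Finset GolayPt} (hd : d ∈ dodecads) {p : GolayPt} (hp : p ∈ d) :
    ∃ g : M24, (g : P24) • G.toF 340831 = d ∧ (g : P24) (G.pt 0) = p ∧
      Cj g m11 (stabilizer M24 d ⊓ stabilizer M24 p) := by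
  obtain ⟨g, h1, h2⟩ := exists_map_dodecad hd (l := [G.pt 0]) (l' := [p]) (List.nodup_singleton _)
    (List.nodup_singleton _) rfl (by simp) (List.forall_mem_singleton.2 ((G.pt_mem_toF (by decide)).2 (by decide)))
    (List.forall_mem_singleton.2 hp)
  exact ⟨g, h1, (List.cons.inj h2).1, (cjSt h1).inf (cjPt (List.cons.inj h2).1)⟩

end Cfsg.Lib.Mathieu
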