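import Cfsg.Agent.Lib.Mathieu.Tab

/-!
# The order of `M24`, five-fold transitivity, generators, transitivity on octads and dodecads
-/

set_option autoImplicit false

namespace Cfsg.Lib.Mathieu

open Cfsg.Lib.Golay Cfsg.Lib.Calc Finset MulAction
open scoped Pointwise

theorem smul_mem_octads {g : P24} (hg : g ∈ M24) {o : Finset GolayPt} : g • o ∈ octads ↔ o ∈ octads :=
  image_mem_octads hg

theorem smul_mem_dodecads {g : P24} (hg : g ∈ M24) {o : Finset GolayPt} : g • o ∈ dodecads ↔ o ∈ dodecads :=
  image_mem_dodecads hg

theorem smul_mem_CW {g : P24} (hg : g ∈ M24) {o : Finset GolayPt} : g • o ∈ CW ↔ o ∈ CW := image_mem_CW hg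

theorem apply_mem_iff {α : Type*} [DecidableEq α] {g : Equiv.Perm α} {t : Finset α} (h : g • t = t) {x : α} :
    g x ∈ t ↔ x ∈ t := by
  conv_lhs => rw [← h]
  exact Finset.smul_mem_smul_finset_iff g

theorem smul_compl {α : Type*} [Fintype α] [DecidableEq α] (g : Equiv.Perm α) (t : Finset α) :
    g • tᶜ = (g • t)ᶜ := by
  ext x
  simp only [← Finset.inv_smul_mem_iff, mem_compl]

theorem smul_eq_of_fix {α : Type*} [DecidableEq α] {g : Equiv.Perm α} {t : Finset α} (h : ∀ x ∈ t, g x = x) :
    g • t = t := by
  rw [perm_smul_finset, image_congr (g := id) h, image_id]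

/-- an element fixing five points of an octad maps the octad to itself -/
theorem smul_octad_of_fix {g : P24} (hg : g ∈ M24) {o s : Finset GolayPt} (ho : o ∈ octads)
    (h5 : 5 ≤ (o ∩ s).card) (hs : ∀ x ∈ s, g x = x) : g • o = o := by
  refine steiner_eq_of_subset octads_steiner ((smul_mem_octads hg).2 ho) ho h5 (fun x hx => ?_) inter_subset_left
  rw [← hs x (mem_inter.1 hx).2]
  exact Finset.smul_mem_smul_finset (mem_inter.1 hx).1

theorem fix_of_card_le_one {α : Type*} [DecidableEq α] {g : Equiv.Perm α} {s t : Finset α}
    (hs : ∀ x ∈ s, g x = x) (ht : g • t = t) (h : (t \ s).card ≤ 1) : ∀ x ∈ s ∪ t, g x = x := by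
  intro x hx
  by_cases h1 : x ∈ s
  · exact hs x h1
  have h2 : x ∈ t := (mem_union.1 hx).resolve_left h1
  refine card_le_one.1 h _ (mem_sdiff.2 ⟨(apply_mem_iff ht).2 h2, fun h3 => h1 ?_⟩) _ (mem_sdiff.2 ⟨h2, h1⟩)
  rwa [g.injective (hs _ h3)] at h3

/-- the fixed points `F` force further fixed points through pairs of octads -/
noncomputable def closeOK (L : List (ℕ × ℕ)) : ℕ → ℕ → Bool :=
  List.rec (motive := fun _ => ℕ → ℕ → Bool) (fun F E => Nat.beq F E)
    (fun l _ ih F E => band (band (band (isOct l.1) (isOct l.2))
      (band (Nat.ble 5 (pc (Nat.land l.1 F))) (Nat.ble 5 (pc (Nat.land l.2 F)))))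
      (band (Nat.ble (pc (Nat.xor (Nat.land l.1 l.2) (Nat.land (Nat.land l.1 l.2) F))) 1)
        (force (Nat.lor F (Nat.land l.1 l.2)) fun F' => ih F' E))) L

theorem fix_of_closeOK {g : P24} (hg : g ∈ M24) {L : List (ℕ × ℕ)} {F E : ℕ} (h : closeOK L F E = true)
    (hF : ∀ x ∈ G.toF F, g x = x) : ∀ x ∈ G.toF E, g x = x := by
  induction L generalizing F with
  | nil => rwa [← beq_iff.1 h]
  | cons l L ih =>
    change band (band _ _) (band _ (force _ fun F' => closeOK L F' E)) = true at h
    simp only [band_eq_true, ble_iff, force_eq] at h
    obtain ⟨⟨⟨h1, h2⟩, h3, h4⟩, h5, h6⟩ := h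
    have a1 := lt_of_isCW (Bool.and_eq_true_iff.1 h1).1
    have a2 := lt_of_isCW (Bool.and_eq_true_iff.1 h2).1
    apply ih h6
    rw [G.toF_lor]
    apply fix_of_card_le_one hF
    · rw [G.toF_land, Finset.smul_finset_inter,
        smul_octad_of_fix hg (mem_octads_of_isOct h1) (by rwa [card_inter_toF a1]) hF,
        smul_octad_of_fix hg (mem_octads_of_isOct h2) (by rwa [card_inter_toF a2]) hF]
    · have a3 : Nat.land l.1 l.2 < 2 ^ 24 := lt_of_le_of_lt Nat.and_le_left a1
      have a4 : Nat.xor (Nat.land l.1 l.2) (Nat.land (Nat.land l.1 l.2) F) < 2 ^ 24 :=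
        Nat.xor_lt_two_pow a3 (lt_of_le_of_lt Nat.and_le_left a3)
      rwa [← G.toF_sdiff, card_toF a4]

theorem eq_one_of_closeOK {g : P24} (hg : g ∈ M24) {L : List (ℕ × ℕ)} {F : ℕ}
    (h : closeOK L F 16777215 = true) (hF : ∀ x ∈ G.toF F, g x = x) : g = 1 :=
  Equiv.ext fun x => fix_of_closeOK hg h hF x (by rw [toF_full]; exact mem_univ x)

/-- the mask of a list of points -/
noncomputable def maskL (l : List ℕ) : ℕ :=
  List.rec (motive := fun _ => ℕ) (nat_lit 0) (fun a _ ih => Nat.lor (Nat.shiftLeft (nat_lit 1) a) ih) l

theorem testBit_maskL {l : List ℕ} {i : ℕ} : (maskL l).testBit i = true ↔ i ∈ l := by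
  induction l with
  | nil => simp [maskL]
  | cons a l ih =>
    change Nat.testBit (1 <<< a ||| maskL l) i = true ↔ _
    rw [Nat.testBit_or, Bool.or_eq_true, ih, Nat.one_shiftLeft, Nat.testBit_two_pow]
    simp [eq_comm]

theorem fix_maskL {g : P24} {l : List ℕ} (h : ∀ b ∈ l, g (G.pt b) = G.pt b) : ∀ x ∈ G.toF (maskL l), g x = x := by
  intro x hx
  rw [G.mem_toF, testBit_maskL] at hx
  simpa only [G.pt_idx] using h _ hx

/-- strong chains, with the list of the earlier base points -/
def SCh (H : Subgroup M24) : List (ℕ × List ℕ) → List ℕ → Prop
  | [], prev => ∀ g ∈ H, (∀ b ∈ prev, g • G.pt b = G.pt b) → g = 1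
  | l :: L, prev => (∀ g ∈ H, (∀ b ∈ prev, g • G.pt b = G.pt b) → ∃ c ∈ l.2, g • G.pt l.1 = G.pt (get 5 c l.1)) ∧
      SCh H L (l.1 :: prev)

theorem SCh.sChain {H : Subgroup M24} {L : List (ℕ × List ℕ)} {prev : List ℕ} (h : SCh H L prev)
    {K : Subgroup M24} (hK : ∀ g ∈ K, g ∈ H ∧ ∀ b ∈ prev, g • G.pt b = G.pt b) : SChain 5 G.pt L K := by
  induction L generalizing prev K with
  | nil => exact eq_bot_iff.2 fun g hg => h g (hK g hg).1 (hK g hg).2
  | cons l L ih =>
    exact ⟨fun g hg => h.1 g (hK g hg).1 (hK g hg).2, ih h.2 fun g hg =>
      ⟨(hK g hg.1).1, List.forall_mem_cons.2 ⟨hg.2, (hK g hg.1).2⟩⟩⟩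

/-- test: the base point lies in `S` and the level covers `S` apart from the points `prev` -/
noncomputable def levOK (l : ℕ × List ℕ) (prev : List ℕ) (S : ℕ) : Bool :=
  force (Nat.xor S (Nat.land S (maskL prev))) fun m =>
    band (band (blt l.1 24) (Calc.bit m l.1)) (Nat.beq (Nat.land m (levMask 5 l)) m)

theorem lev_of_levOK {l : ℕ × List ℕ} {prev : List ℕ} {S : ℕ} (h : levOK l prev S = true) {g : M24}
    (hg : ∀ b ∈ prev, g • G.pt b = G.pt b) (hS : (g : P24) • G.toF S = G.toF S) :
    ∃ c ∈ l.2, g • G.pt l.1 = G.pt (get 5 c l.1) := by
  rw [levOK, force_eq, band_eq_true, band_eq_true, blt_iff, Calc.bit_eq, beq_iff] at h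
  obtain ⟨⟨h1, h2⟩, h3⟩ := h
  have h4 : (g : P24) • G.toF (Nat.xor S (Nat.land S (maskL prev))) = G.toF (Nat.xor S (Nat.land S (maskL prev))) := by
    rw [G.toF_sdiff, Finset.smul_finset_sdiff, hS, smul_eq_of_fix (fix_maskL hg)]
  have h5 := (apply_mem_iff h4).2 ((G.pt_mem_toF h1).2 h2)
  rw [G.mem_toF, ← h3, Nat.land_eq, Nat.testBit_and, Bool.and_eq_true, testBit_levMask] at h5
  obtain ⟨c, h6, h7⟩ := h5.2
  exact ⟨c, h6, by rw [h7, G.pt_idx]; rfl⟩

theorem smul_toF_full (g : P24) : g • G.toF 16777215 = G.toF 16777215 := by
  rw [toF_full]; exact Finset.smul_finset_univ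

/-- a stabiliser chain for `M24`, with base `∞, 0, 1, 2, 3, 5, 4` -/
def L24 : List (ℕ × List ℕ) :=
  [(23, [984818244535754528103549039458486304, 1795248432537898728475572672376535, 44673570877212604306017735907225623, 87551893321887283366365293184594999, 928413874498667716355043516223936224, 755859705571862642503515274234732567, 892251368566759363194779899615526935, 130430215766561988943882167652005975, 477144491347695089491217979027889856, 253823597301981865184255958302697047, 640114323084057553690178662878621367, 190951935605525413789744201821990967, 585523158119837036233790286303762487, 792135030390586670760519906780822240, 377064438280262129112296403515024096, 222364355908588828441337342458505952, 344890183499456490789324506827002592, 296304022597551229439742761726626528, 675856953819394537962239140507033312, 504024537804087311985285899166629600, 547247752823891330479717074220761111, 432967574206910470453807934578511895, 859784228101062504231446082764848151, 714569974188294559719665835663709888]),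
   (0, [984818244535754528103549039458486304, 956302485175575353788796878166559809, 956709441910203461498593497208492130, 955976305995358692400003018625453266, 956171597761606756855173743460562421, 958020233522794296771657265635857539, 978766510459594708251448298497017958, 982666835971191080987070255895030191, 956692448237126515039967959567407716, 956700210629563033640238231296978030, 957316225099133873385554888546685171, 955531344607910155057225104017738925, 956238851333901828559365744906804650, 955973830229213118551346237771157204, 955964018546725517380550870118239852, 955974867771188132410415943775227216, 957511545338002841404446647294212630, 955671275434833422831240448467874248, 955644492580115300100529157990650151, 978753505790335865057267910645857705, 972262234343068406923823368254001765, 956692516315313806562209227181536907, 978767317132650547055066977515457649]),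
   (1, [984818244535754528103549039458486304, 974380510768821363662145534143076928, 980629847288759426227608728866569888, 977864963184960973661438897150854272, 960141746370468168693252266696218016, 982781961602201720761752775146321216, 974301286252163000505128546805602944, 973987312412559763039676781912247680, 974334487595363443995359138935843328, 977632685627740696787166096325447104, 964619532832012737461743289100548352, 963762481481032810078981993829377248, 981940595694310479059160672390895072, 969952412052033243847481939299780672, 981768893301254953349481114396886208, 962206482496189416344818077947495776, 962492282889726120886681519641429600, 960097491402011568105456662565573920, 976584380408632235477711745056234016, 983067386309799489795421989853438048, 959709802390576799438973835575664320, 965021059254296388495495263109517472]),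
   (2, [984818244535754528103549039458486304, 967416723304961354470998494988046368, 975365413159956401147756746068047904, 979407746049146273072461538571556896, 967486435368747873246056531856337952, 978267137110625062817734673760274464, 969278951539904552122793875757976608, 970286575247783264035791430717283360, 975309659010803509184430454487594016, 974457808987407916056112970517285920, 962501879208651203137323339955295264, 967729080089996263139561433750160416, 972968053264191614937752782323029024, 978880561413795282816562742329397280, 972529241043513639569407730430259232, 982134182403881324904354654863906848, 976899315341860669146509945968306208, 961049274326579545437434424260705312, 978037694076402689584911941422392352, 975688704939668963651171086596644896, 980915183914625525116647481421316128]),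
   (3, [984818244535754528103549039458486304, 962286864140653867024520594739169312, 965933924869347573707900197936531488, 963755665108038844989100794309871648, 974179718507007424924500263624181792, 962388001675358616435832059857569824, 962708746329750958865455491016493088, 962129910481450954006188409131436064, 966355550999394418470969827140077600, 984715045893605764374353088376735776, 975142260029045025207067819024451616, 970193480443446128102086410848864288, 984674686509231270848998217272133664, 982864707790982031720319978051110944, 977835672239336755042073908247660576, 974435698278013789830892422199314464, 973816297262249650085847133840705568, 984202951082164080105044112956360736, 982210194077995055455057513613396000, 980432007022788775397046874473433120]),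
   (5, [984818244535754528103549039458486304, 965225113279737155758354497310656544, 966320096358733541442380578386184224]),
   (4, [984818244535754528103549039458486304, 963721886883755259286232606933354528, 976448692869377735270425038196672544, 971592882964418941354553515258775584, 966182099583441531322624363496310816, 980224387687010295957922729495201824, 968708902336673183175954409307867168, 975346028712660580592452217730074656, 979121071158219704299181131031480352, 970499966350631336865513127433832480, 972512676110088067912772961567868960, 981818691054096003685363657089320992, 967812279691448225500382947153381408, 983548720921252936276249910206105632, 961365507626256404119956257276790816, 965128854020860192151391391390468128])]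

/-- the standard octad `{∞, 0, 1, 2, 3, 5, 14, 17}` -/
theorem oct0_mem : G.toF 8536111 ∈ octads := mem_octads_of_isOct (by decide +kernel)

theorem wChain_of_okM {L : List (ℕ × List ℕ)} (h : wOK 24 5 okM L [] = true) :
    WChain 24 5 G.pt L (⊤ : Subgroup M24) :=
  wChain_of_wOK (H := ⊤) (fun c hc => ⟨mk c, trivial, mk_rep hc⟩) h

theorem wL24 : WChain 24 5 G.pt L24 (⊤ : Subgroup M24) := wChain_of_okM (by decide +kernel)

theorem eq_one_of_fix_base {g : P24} (hg : g ∈ M24) (h : ∀ b ∈ [4, 5, 3, 2, 1, 0, 23], g (G.pt b) = G.pt b) :
    g = 1 :=
  eq_one_of_closeOK hg (L := [(12656663, 8663097), (3416079, 9543722), (3416079, 11538486), (11100169, 12222476), (9347075, 10305542), (9347075, 13938692), (9347075, 9347075), (13938692, 10170384), (13062145, 13938692), (13062145, 10170384), (13062145, 13062145), (15515712, 15515712), (2019456, 2019456), (4038912, 4038912), (8077824, 8077824), (11654144, 11654144), (14919680, 14919680)]) (by decide +kernel) (fix_maskL h)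

theorem sL24 : SChain 5 G.pt L24 (⊤ : Subgroup M24) := by
  refine SCh.sChain (H := ⊤) (prev := []) ?_ fun g hg => ⟨hg, by simp⟩
  have h0 : ∀ {g : M24} {l : List ℕ}, (∀ b ∈ l, g • G.pt b = G.pt b) → Nat.ble 5 (pc (Nat.land 8536111 (maskL l)))
      → (g : P24) • G.toF 8536111 = G.toF 8536111 := fun {g l} h1 h2 =>
    smul_octad_of_fix g.2 oct0_mem (by rw [card_inter_toF (by norm_num)]; exact ble_iff.1 h2) (fix_maskL h1)
  refine ⟨fun g _ h => lev_of_levOK (by decide +kernel) h (smul_toF_full _),
    fun g _ h => lev_of_levOK (by decide +kernel) h (smul_toF_full _),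
    fun g _ h => lev_of_levOK (by decide +kernel) h (smul_toF_full _),
    fun g _ h => lev_of_levOK (by decide +kernel) h (smul_toF_full _),
    fun g _ h => lev_of_levOK (by decide +kernel) h (smul_toF_full _),
    fun g _ h => lev_of_levOK (by decide +kernel) h (h0 h (by decide +kernel)),
    fun g _ h => lev_of_levOK (S := Nat.xor 8536111 (2 ^ G.n - 1)) (by decide +kernel) h ?_,
    fun g _ h => Subtype.ext (eq_one_of_fix_base g.2 h)⟩
  rw [G.toF_compl, smul_compl, h0 h (by decide +kernel)]

theorem card_M24 : Nat.card M24 = 244823040 := by
  rw [← Subgroup.card_top, wL24.card_eq inj_pt sL24]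
  decide +kernel

/-- `M24` is five-fold transitive -/
theorem exists_map_le_five {k : ℕ} (hk : k ≤ 5) (x y : Fin k → GolayPt) (hx : Function.Injective x)
    (hy : Function.Injective y) : ∃ g : M24, ∀ i, (g : P24) (x i) = y i := by
  have : ∀ k ≤ 5, covOK 5 L24 k 16777215 = true := by decide +kernel
  obtain ⟨g, -, h⟩ := exists_map_of_cov' wL24 (S := Set.univ) (fun _ _ _ _ => trivial)
    (cov_of_covOK (fun x _ => ⟨G.idx x, by rw [← G.mem_toF, toF_full]; exact mem_univ x, G.pt_idx x⟩) (this k hk))
    x y (fun _ => trivial) (fun _ => trivial) hx hy
  exact ⟨g, h⟩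

theorem isMultiplyPretransitive_M24 {k : ℕ} (hk : k ≤ 5) : IsMultiplyPretransitive M24 GolayPt k :=
  isMultiplyPretransitive_iff.2 fun x y => by
    obtain ⟨g, h⟩ := exists_map_le_five hk x y x.2 y.2
    exact ⟨g, Function.Embedding.ext h⟩

theorem exists_map_list {l l' : List GolayPt} (h : l.Nodup) (h' : l'.Nodup) (e : l.length = l'.length)
    (h5 : l.length ≤ 5) : ∃ g : M24, l.map (g : P24) = l' := by
  obtain ⟨g, hg⟩ := exists_map_le_five h5 l.get (fun i => l'.get (i.cast e)) (List.nodup_iff_injective_get.1 h)
    ((List.nodup_iff_injective_get.1 h').comp (Fin.cast_injective e))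
  refine ⟨g, List.ext_get (by simpa using e) fun i h1 h2 => ?_⟩
  simpa using hg ⟨i, by simpa using h1⟩

theorem exists_map1 (a b : GolayPt) : ∃ g : M24, (g : P24) a = b := by
  obtain ⟨g, h⟩ := exists_map_list (l := [a]) (l' := [b]) (List.nodup_singleton _) (List.nodup_singleton _) rfl
    (by simp)
  exact ⟨g, (List.cons.inj h).1⟩

theorem exists_map2 {a b a' b' : GolayPt} (h : [a, b].Nodup) (h' : [a', b'].Nodup) :
    ∃ g : M24, (g : P24) a = a' ∧ (g : P24) b = b' := by
  obtain ⟨g, h⟩ := exists_map_list h h' rfl (by simp)
  simp only [List.map_cons, List.cons.injEq] at h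
  exact ⟨g, h.1, h.2.1⟩

theorem exists_map3 {a b c a' b' c' : GolayPt} (h : [a, b, c].Nodup) (h' : [a', b', c'].Nodup) :
    ∃ g : M24, (g : P24) a = a' ∧ (g : P24) b = b' ∧ (g : P24) c = c' := by
  obtain ⟨g, h⟩ := exists_map_list h h' rfl (by simp)
  simp only [List.map_cons, List.cons.injEq] at h
  exact ⟨g, h.1, h.2.1, h.2.2.1⟩

theorem exists_map4 {a b c d a' b' c' d' : GolayPt} (h : [a, b, c, d].Nodup) (h' : [a', b', c', d'].Nodup) :
    ∃ g : M24, (g : P24) a = a' ∧ (g : P24) b = b' ∧ (g : P24) c = c' ∧ (g : P24) d = d' := by
  obtain ⟨g, h⟩ := exists_map_list h h' rfl (by simp)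
  simp only [List.map_cons, List.cons.injEq] at h
  exact ⟨g, h.1, h.2.1, h.2.2.1, h.2.2.2.1⟩

theorem exists_map5 {a b c d e a' b' c' d' e' : GolayPt} (h : [a, b, c, d, e].Nodup)
    (h' : [a', b', c', d', e'].Nodup) :
    ∃ g : M24, (g : P24) a = a' ∧ (g : P24) b = b' ∧ (g : P24) c = c' ∧ (g : P24) d = d' ∧ (g : P24) e = e' := by
  obtain ⟨g, h⟩ := exists_map_list h h' rfl (by simp)
  simp only [List.map_cons, List.cons.injEq] at h
  exact ⟨g, h.1, h.2.1, h.2.2.1, h.2.2.2.1, h.2.2.2.2.1⟩

/-- `M24` is transitive on the sets of a given size at most five -/
theorem exists_smul_eq_of_card_le_five {s t : Finset GolayPt} (h : s.card = t.card) (h5 : s.card ≤ 5) :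
    ∃ g : M24, (g : P24) • s = t := by
  obtain ⟨g, hg⟩ := exists_map_le_five h5 (fun i => (s.equivFin.symm i : GolayPt))
    (fun i => (t.equivFinOfCardEq h.symm).symm i) (fun _ _ e => s.equivFin.symm.injective (Subtype.ext e))
    (fun _ _ e => (t.equivFinOfCardEq h.symm).symm.injective (Subtype.ext e))
  refine ⟨g, eq_of_subset_of_card_le (fun y hy => ?_) (by rw [card_smul_finset, h])⟩
  obtain ⟨x, hx, rfl⟩ := Finset.mem_smul_finset.1 hy
  have := hg (s.equivFin ⟨x, hx⟩)
  rw [Equiv.symm_apply_apply] at this
  rw [show (g : P24) • x = _ from this]
  exact ((t.equivFinOfCardEq h.symm).symm _).2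

theorem shift_rep : Rp shiftPerm 956302485175575353788796878166559809 := Rep.of_tabOK (by decide +kernel) (by decide +kernel)
theorem projInv_rep : Rp projInv 1795248432537898728475572672376535 := Rep.of_tabOK (by decide +kernel) (by decide +kernel)
theorem cubeTwist_rep : Rp cubeTwist 974380510768821363662145534143076928 :=
  Rep.of_tabOK (by decide +kernel) (show ∀ i : Fin 24, cubeTwistFun (G.pt i) = _ by decide +kernel)

theorem closure_gens : Subgroup.closure {shiftPerm, projInv, cubeTwist} = M24 := by
  apply Subgroup.eq_of_le_of_card_ge
  · rw [Subgroup.closure_le]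
    rintro _ (rfl | rfl | rfl)
    exacts [shiftPerm_mem, projInv_mem, cubeTwist_mem]
  · rw [card_M24]
    refine le_trans (by decide +kernel) (le_card_of_genOK inj_pt faithful_P24 (by norm_num) (by norm_num)
      (by norm_num) ?_ (by decide +kernel : genOK 24 5 [956302485175575353788796878166559809, 1795248432537898728475572672376535, 974380510768821363662145534143076928, 969952412052033243847481939299780672, 970321473781090712896086569094568224, 959902440770469959800038402296589344, 961160078703313819703465967483428896, 981938773752582178498632748734220320, 969832192716165499587623260873426976, 963582593757073591850928955785840672, 964862721552653238424309835408443424, 984436632068016323118584907140532256, 981818691054096003685363657089320992, 976448692869377735270425038196672544, 963721886883755259286232606933354528, 965128854020860192151391391390468128]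
    [0, 0, 0, 6659, 8768326157, 6146, 58305849867, 10326206217, 28913265929, 18178, 2016739273738, 642086632354060, 758580486, 2038630350089, 4473552655113, 617219] 3
    [(23, [0, 1, 2], 24), (0, [0, 2], 23), (1, [3, 4], 22), (2, [5, 6], 21), (3, [7, 8], 20), (5, [9, 10, 11], 3), (4, [12, 13, 14, 15], 16)] = true))
    intro a ha
    interval_cases a
    exacts [⟨_, Subgroup.subset_closure (by simp), shift_rep⟩, ⟨_, Subgroup.subset_closure (by simp), projInv_rep⟩,
      ⟨_, Subgroup.subset_closure (by simp), cubeTwist_rep⟩]

/-- tables of two generators of `M24` -/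
def g24L : List ℕ := [226568554142069451379720743175690889, 275406128147024116133834929958594604]

theorem top_of_okL {l : List ℕ} (h : okL l = true) : ∀ c ∈ l, ∃ g ∈ (⊤ : Subgroup M24), R g c :=
  fun c hc => ⟨mk c, trivial, mk_rep_of_okL h hc⟩

theorem g24L_ok : ∀ c ∈ g24L, ∃ g ∈ (⊤ : Subgroup M24), R g c := top_of_okL (by decide +kernel)

theorem orbit_top {G X : Type*} [Group G] [MulAction G X] (x : X) : orbit (⊤ : Subgroup G) x = orbit G x := by
  ext y
  exact ⟨fun ⟨g, h⟩ => ⟨g, h⟩, fun ⟨g, h⟩ => ⟨⟨g, trivial⟩, h⟩⟩

theorem orbit_eq_of_le {G X : Type*} [Group G] [MulAction G X] [Finite X] {x : X} {Ω : Set X}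
    (h1 : ∀ g : G, g • x ∈ Ω) (h2 : Ω.ncard ≤ (orbit G x).ncard) : orbit G x = Ω :=
  Set.eq_of_subset_of_ncard_le (by rintro _ ⟨g, rfl⟩; exact h1 g) h2 (Set.toFinite _)

theorem exists_smul_of_orbit_eq {G X : Type*} [Group G] [MulAction G X] {x a b : X} {Ω : Set X}
    (h : orbit G x = Ω) (ha : a ∈ Ω) (hb : b ∈ Ω) : ∃ g : G, g • a = b := by
  rw [← h] at ha hb
  obtain ⟨g, rfl⟩ := ha
  obtain ⟨g', rfl⟩ := hb
  exact ⟨g' * g⁻¹, by simp [mul_smul]⟩

theorem orbit_eq_of_mem {G X : Type*} [Group G] [MulAction G X] {x a : X} {Ω : Set X}
    (h : orbit G x = Ω) (ha : a ∈ Ω) : orbit G a = Ω := by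
  rw [← h] at ha ⊢
  exact orbit_eq_iff.2 ha

theorem orbit_oct0 : orbit M24 (G.toF 8536111) = octads := by
  apply orbit_eq_of_le (fun g : M24 => (smul_mem_octads g.2).2 oct0_mem)
  rw [ncard_octads, ← orbit_top]
  exact orbM_le ⊤ g24L_ok (by norm_num) (by norm_num)
    (by decide +kernel : Nat.beq (orbM g24L 0x4000b0004000400030007000200020000000c000000320000000800020013000600660000000100100000001e0001001a0011000400000025001d000500040003007d00010009000b000a002f000000010000001a00000003000800190009001900230003000d001300900018001f002a000d000100000067000600050012001600010018000f000400000000000c00000001001d0024000000040001000d000700000002000200010001001c000000120004000100010019000100070000000f0003000000060002001500130009000a000000040000000800170000001100070002002a0011004c000c0003001900010010002f0033002000310006000000000080002900070010000000040005003e00000000000400040003000e000a000600000001000100000005000700530000000f0010000100280000000f001f000300000005000400000018000000140005000b000200010000000a0005003100000001002c000800000009000b000f00080001001b00190021001f 191 5343907 953 (fun _ => true) 759 8536111) 759 = true)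

theorem orbit_octad {o : Finset GolayPt} (ho : o ∈ octads) : orbit M24 o = octads := orbit_eq_of_mem orbit_oct0 ho

theorem exists_smul_octad {o o' : Finset GolayPt} (ho : o ∈ octads) (ho' : o' ∈ octads) :
    ∃ g : M24, (g : P24) • o = o' := exists_smul_of_orbit_eq orbit_oct0 ho ho'

/-- the standard dodecad of squares -/
theorem dod0_mem : G.toF 340831 ∈ dodecads := mem_dodecads_of_isDod (by decide +kernel)

theorem orbit_dod0 : orbit M24 (G.toF 340831) = dodecads := by
  apply orbit_eq_of_le (fun g : M24 => (smul_mem_dodecads g.2).2 dod0_mem)
  rw [ncard_dodecads, ← orbit_top]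
  exact orbM_le ⊤ g24L_ok (by norm_num) (by norm_num)
    (by decide +kernel : Nat.beq (orbM g24L 0x170029000200180000000400200029002d0001000d000b0004000400af00000036000a000a000400120004000c001a00570000000100050011000900010021000000370002001a008d00040002000e00090003009f000a00380001000200070051002a00020012000300280004001a000000020001000e000000080008000c000500050000005c0057001100580043002200000000002a001d00030006000300000000000600020033000d0004000c0004000000600002000f0001000000110005000500070000000d00020003000500090003001c000c00060005000b0010000000030004003900060007000000080007000800080043006c0003000000090006001c000000ac00000006000000010004000900000002001b0056000100060004000900010002005f000800030009000400160001000100020008000100030000005e000a000000270004000e00000005000400000001000d000d0045000000230000000c000200250008000400030002004b0009003f003400800000005e002c0002000100010006003b000100010014007a00040024000100090001001f000100eb00000027000100150001000b001f0006000000140037003e000e000e001a0020000f00010021005e0001002b0008001700040000001f002d000100070019000e0002000500050008001e008800290000002400030000001a001c001b000201880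00b000500010008001100010000008b00220002000a0005001d00220000004e000e0020007c00090004000300070001000000000001001500030047000a000100050013000c0001000c0000001a000600000066005b00420000006f0003006d000100020005000e0000003e00010001001100550005003d00230011000000070011001100010053005f00000000007b0000001b00bb003600250009000e0001000c000600000011001f000b0075000300000000000f000d000200320005000300030026001300050001000d000900000003000000230009000e000000040008000a003b001a0002001e0001000b0006001900010003002d00130007000f0004000d00030000000700000001001000000019000c003a001b0002004100070010002a00180002000e000000030022002500060018002a00000002000600010002000b00130017000e000000020011003e0009005000c50007000000140004002200000017000c0000000100010068002a0020000800c100050002000600100000000100050000003d001d000000400001000b00350005001100040001004c00000001001600000013005a0000000e000000000008000000000003002f00000002000900440001000000000000000200000002000100010000000000060054000600280012000700000003000e000c000100000002009d000c0001000b0017000200310021000000080006001800040010001200080014000200080025001d000300810013000200010005001b00010000000a000a00090001009e000100060008000e0000000100100001000a00a600010002000e00030055000200e3000000190001001500020000000b00140028000100010001000100060004000600110000000c0014009a0011000a0010008c0005000100040003001d0094000e00020001002300000028002a000200420008000c00200004000900060013004b000500000000005f009e00020003000200080002001400050028000000000005002700000002001b000000160003000300770007000e0005001e002000010006000000000030003300020000000a006a0003001d000600000006001c002a0000000000070045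 659 8056021 3229 (fun _ => true) 2576 340831) 2576 = true)

theorem orbit_dodecad {o : Finset GolayPt} (ho : o ∈ dodecads) : orbit M24 o = dodecads :=
  orbit_eq_of_mem orbit_dod0 ho

theorem exists_smul_dodecad {o o' : Finset GolayPt} (ho : o ∈ dodecads) (ho' : o' ∈ dodecads) :
    ∃ g : M24, (g : P24) • o = o' := exists_smul_of_orbit_eq orbit_dod0 ho ho'

/-- orbit-stabiliser, for computing orders -/
theorem card_stabilizer_eq {G X : Type*} [Group G] [MulAction G X] {x : X} {a b : ℕ} (ha : a ≠ 0)
    (h1 : (orbit G x).ncard = a) (h2 : Nat.card G = a * b) : Nat.card (stabilizer G x) = b := by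
  rw [← (stabilizer G x).index_mul_card, index_stabilizer, h1] at h2
  exact Nat.eq_of_mul_eq_mul_left (Nat.pos_of_ne_zero ha) h2

theorem card_inf_stabilizer_eq {G X : Type*} [Group G] [MulAction G X] {H : Subgroup G} {x : X} {a b : ℕ}
    (ha : a ≠ 0) (h1 : (orbit H x).ncard = a) (h2 : Nat.card H = a * b) : Nat.card ↥(H ⊓ stabilizer G x) = b := by
  rw [card_eq_ncard_orbit_mul H x, h1] at h2
  exact Nat.eq_of_mul_eq_mul_left (Nat.pos_of_ne_zero ha) h2

theorem card_stabilizer_octad {o : Finset GolayPt} (ho : o ∈ octads) : Nat.card (stabilizer M24 o) = 322560 :=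
  card_stabilizer_eq (a := 759) (by norm_num) (by rw [orbit_octad ho, ncard_octads]) (by rw [card_M24])

theorem card_stabilizer_dodecad {o : Finset GolayPt} (ho : o ∈ dodecads) : Nat.card (stabilizer M24 o) = 95040 :=
  card_stabilizer_eq (a := 2576) (by norm_num) (by rw [orbit_dodecad ho, ncard_dodecads]) (by rw [card_M24])

end Cfsg.Lib.Mathieu
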